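/-
Finite type / precoherence relative to a quasi-liftable subcategory of an abelian category.
-/
import Groth.Prelude.Def_PCoh
import Mathlib.CategoryTheory.Abelian.Refinements
import Mathlib.CategoryTheory.Limits.Shapes.Pullback.Pasting
import Mathlib.CategoryTheory.Abelian.Basic

universe v u

open CategoryTheory CategoryTheory.Limits

namespace Groth.Agent.DHA.FiniteType

variable {C : Type u} [Category.{v} C] [Abelian C] {P : ObjectProperty C}

lemma biprod_mem [P.IsClosedUnderIsomorphisms] (hsum : ∀ X Y : C, P X → P Y → P (X ⨯ Y))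
    {X Y : C} (hX : P X) (hY : P Y) : P (X ⊞ Y) :=
  P.prop_of_iso (biprod.isoProd X Y).symm (hsum X Y hX hY)

/-- Along an epimorphism `p`, any map from an object of `P` lifts after refining by an epi from `P`. -/
lemma exists_lift (hql : PCoh.IsQuasiLiftable P) {Y Z E : C} (p : Y ⟶ Z) [Epi p] (hE : P E)
    (u : E ⟶ Z) : ∃ (E' : C) (q : E' ⟶ E) (v : E' ⟶ Y), P E' ∧ Epi q ∧ v ≫ p = q ≫ u := by
  obtain ⟨E', w, hE', hw⟩ := hql _ _ (pullback.snd p u) inferInstance hE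
  exact ⟨E', w ≫ pullback.snd p u, w ≫ pullback.fst p u, hE', hw,
    by simp [pullback.condition]⟩

lemma finiteType_of_epi {X Y : C} (h : PCoh.IsOfFiniteType P X) (f : X ⟶ Y) [Epi f] :
    PCoh.IsOfFiniteType P Y := by
  obtain ⟨E, π, hE, hπ⟩ := h
  exact ⟨E, π ≫ f, hE, inferInstance⟩

lemma finiteType_kernel (S : ShortComplex C) (hS : S.Exact) [Mono S.f]
    (hG : PCoh.IsOfFiniteType P S.X₂)
    (hH : ∀ (E : C) (u : E ⟶ S.X₃), P E → PCoh.IsOfFiniteType P (kernel u)) :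
    PCoh.IsOfFiniteType P S.X₁ := by
  obtain ⟨E, π, hE, hπ⟩ := hG
  obtain ⟨k, hk⟩ : ∃ k : kernel (π ≫ S.g) ⟶ S.X₁, k ≫ S.f = kernel.ι (π ≫ S.g) ≫ π :=
    ⟨hS.lift (kernel.ι (π ≫ S.g) ≫ π) (by simp), hS.lift_f _ _⟩
  haveI : Epi k := by
    rw [epi_iff_surjective_up_to_refinements]
    intro A x
    obtain ⟨A', q, hq, y, hy⟩ := surjective_up_to_refinements_of_epi π (x ≫ S.f)
    refine ⟨A', q, hq, kernel.lift _ y ?_, ?_⟩
    · rw [← Category.assoc, ← hy]; simp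
    · rw [← cancel_mono S.f]; simp [hk, hy]
  exact finiteType_of_epi (hH E _ hE) k

lemma precoherent_cokernel [P.IsClosedUnderIsomorphisms]
    (hsum : ∀ X Y : C, P X → P Y → P (X ⨯ Y)) (hql : PCoh.IsQuasiLiftable P)
    (S : ShortComplex C) (hS : S.Exact) [Epi S.g] (hF : PCoh.IsOfFiniteType P S.X₁)
    (hG : ∀ (E : C) (u : E ⟶ S.X₂), P E → PCoh.IsOfFiniteType P (kernel u)) :
    ∀ (E : C) (u : E ⟶ S.X₃), P E → PCoh.IsOfFiniteType P (kernel u) := by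
  intro E u hE
  obtain ⟨E', q, v, hE', hq, hv⟩ := exists_lift hql S.g hE u
  obtain ⟨F₀, π, hF₀, hπ⟩ := hF
  let w : E' ⊞ F₀ ⟶ S.X₂ := biprod.desc v (π ≫ S.f)
  have hw : biprod.fst ≫ q ≫ u = w ≫ S.g := by
    apply biprod.hom_ext' <;> simp [w, hv]
  let k : kernel w ⟶ kernel u := kernel.lift u (kernel.ι w ≫ biprod.fst ≫ q)
    (by simp only [Category.assoc, hw]; rw [← Category.assoc, kernel.condition, zero_comp])
  haveI : Epi k := by
    rw [epi_iff_surjective_up_to_refinements]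
    intro A x
    obtain ⟨A₁, q₁, _, y, hy⟩ := surjective_up_to_refinements_of_epi q (x ≫ kernel.ι u)
    have h0 : (y ≫ v) ≫ S.g = 0 := by
      rw [Category.assoc, hv, ← Category.assoc, ← hy]; simp
    obtain ⟨A₂, q₂, _, z, hz⟩ := hS.exact_up_to_refinements (y ≫ v) h0
    obtain ⟨A₃, q₃, _, z', hz'⟩ := surjective_up_to_refinements_of_epi π z
    refine ⟨A₃, q₃ ≫ q₂ ≫ q₁, inferInstance,
      kernel.lift w (biprod.lift (q₃ ≫ q₂ ≫ y) (-z')) ?_, ?_⟩
    · simp [w, hz, ← reassoc_of% hz']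
    · rw [← cancel_mono (kernel.ι u)]; simp [k, hy]
  exact finiteType_of_epi (hG _ w (biprod_mem hsum hE' hF₀)) k

lemma precoherent_middle (S : ShortComplex C) (hS : S.ShortExact)
    (h₁ : ∀ (E : C) (u : E ⟶ S.X₁), P E → PCoh.IsOfFiniteType P (kernel u))
    (h₃ : ∀ (E : C) (u : E ⟶ S.X₃), P E → PCoh.IsOfFiniteType P (kernel u)) :
    ∀ (E : C) (u : E ⟶ S.X₂), P E → PCoh.IsOfFiniteType P (kernel u) := by
  intro E u hE
  have := hS.mono_f
  obtain ⟨E', π, hE', hπ⟩ := h₃ E (u ≫ S.g) hE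
  obtain ⟨u', hu'⟩ : ∃ u' : E' ⟶ S.X₁, u' ≫ S.f = π ≫ kernel.ι _ ≫ u :=
    ⟨hS.exact.lift (π ≫ kernel.ι _ ≫ u) (by simp), hS.exact.lift_f _ _⟩
  let k : kernel u' ⟶ kernel u := kernel.lift u (kernel.ι u' ≫ π ≫ kernel.ι _)
    (by simp only [Category.assoc]; rw [← hu', kernel.condition_assoc, zero_comp])
  haveI : Epi k := by
    rw [epi_iff_surjective_up_to_refinements]
    intro A x
    obtain ⟨A₁, q₁, _, y, hy⟩ := surjective_up_to_refinements_of_epi π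
      (kernel.lift (u ≫ S.g) (x ≫ kernel.ι u) (by simp))
    have hy' := congrArg (· ≫ kernel.ι (u ≫ S.g)) hy
    simp only [Category.assoc, kernel.lift_ι] at hy'
    refine ⟨A₁, q₁, inferInstance, kernel.lift u' y ?_, ?_⟩
    · rw [← cancel_mono S.f, Category.assoc, hu', ← reassoc_of% hy']; simp
    · rw [← cancel_mono (kernel.ι u)]; simp [k, hy']
  exact finiteType_of_epi (h₁ _ u' hE') k

lemma finiteType_middle [P.IsClosedUnderIsomorphisms]
    (hsum : ∀ X Y : C, P X → P Y → P (X ⨯ Y)) (hql : PCoh.IsQuasiLiftable P)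
    (S : ShortComplex C) (hS : S.ShortExact)
    (h₁ : PCoh.IsOfFiniteType P S.X₁) (h₃ : PCoh.IsOfFiniteType P S.X₃) :
    PCoh.IsOfFiniteType P S.X₂ := by
  obtain ⟨E₁, π₁, hE₁, hπ₁⟩ := h₁
  obtain ⟨E₃, π₃, hE₃, hπ₃⟩ := h₃
  have := hS.epi_g
  obtain ⟨E', q, v, hE', hq, hv⟩ := exists_lift hql S.g hE₃ π₃
  refine ⟨E₁ ⊞ E', biprod.desc (π₁ ≫ S.f) v, biprod_mem hsum hE₁ hE', ?_⟩
  rw [epi_iff_surjective_up_to_refinements]
  intro A x
  obtain ⟨A₁, q₁, _, y, hy⟩ := surjective_up_to_refinements_of_epi (q ≫ π₃) (x ≫ S.g)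
  obtain ⟨A₂, q₂, _, z, hz⟩ := hS.exact.exact_up_to_refinements (q₁ ≫ x - y ≫ v)
    (by simp [Preadditive.sub_comp, hv, hy])
  obtain ⟨A₃, q₃, _, z', hz'⟩ := surjective_up_to_refinements_of_epi π₁ z
  refine ⟨A₃, q₃ ≫ q₂ ≫ q₁, inferInstance, biprod.lift z' (q₃ ≫ q₂ ≫ y), ?_⟩
  simp only [Category.assoc, biprod.lift_desc]
  rw [← reassoc_of% hz', ← hz, ← Preadditive.comp_add, ← Preadditive.comp_add]
  simp

end Groth.Agent.DHA.FiniteType
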