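/-
Modification of the source of a morphism `u : E ⟶ F` of cochain complexes by a morphism
`φ : T ⟶ mappingCone u`: a degreewise split extension `E ⟶ mid ⟶ T` and `u' : mid ⟶ F`
with `v ≫ u' = u`, whose homology is controlled by the one of `φ`.
-/
import Mathlib.Algebra.Homology.Refinements
import Mathlib.Algebra.Homology.HomotopyCategory.MappingCone
import Mathlib.Algebra.Homology.QuasiIso

universe v u

open CategoryTheory CategoryTheory.Limits CochainComplex

namespace Groth.Agent.DHA.Modify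

variable {C : Type u} [Category.{v} C] [Abelian C] {E F T : CochainComplex C ℤ} {u : E ⟶ F}
  (φ : T ⟶ mappingCone u)

/-- component of `φ` towards `E` -/
noncomputable def zc (i j : ℤ) (h : i + 1 = j) : T.X i ⟶ E.X j :=
  φ.f i ≫ (mappingCone.fst u).1.v i j h

/-- component of `φ` towards `F` -/
noncomputable def hc (i : ℤ) : T.X i ⟶ F.X i :=
  φ.f i ≫ (mappingCone.snd u).v i i (add_zero i)

lemma zc_d (i j k : ℤ) (hij : i + 1 = j) (hjk : j + 1 = k) :
    T.d i j ≫ zc φ j k hjk = -(zc φ i j hij ≫ E.d j k) := by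
  simp only [zc, ← Category.assoc, ← φ.comm i j]
  simp only [Category.assoc, mappingCone.d_fst_v u i j k hij hjk, Preadditive.comp_neg]

lemma hc_d (i j : ℤ) (hij : i + 1 = j) :
    T.d i j ≫ hc φ j = zc φ i j hij ≫ u.f j + hc φ i ≫ F.d i j := by
  simp only [hc, zc, ← Category.assoc, ← φ.comm i j]
  simp only [Category.assoc, mappingCone.d_snd_v u i j hij, Preadditive.comp_add]

/-- the modified complex -/
noncomputable def mid : CochainComplex C ℤ :=
  CochainComplex.of (fun i => T.X i ⊞ E.X i)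
    (fun i => biprod.desc (biprod.lift (T.d i (i + 1)) (-zc φ i (i + 1) rfl))
      (biprod.lift 0 (E.d i (i + 1))))
    (fun i => by
      ext <;> simp [zc_d φ i (i + 1) (i + 1 + 1) rfl rfl])

/-- the inclusion of `T` in each degree -/
noncomputable def inT (i : ℤ) : T.X i ⟶ (mid φ).X i := (biprod.inl : T.X i ⟶ T.X i ⊞ E.X i)

/-- the inclusion of `E` in each degree -/
noncomputable def inE (i : ℤ) : E.X i ⟶ (mid φ).X i := (biprod.inr : E.X i ⟶ T.X i ⊞ E.X i)

/-- the projection to `T` in each degree -/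
noncomputable def prT (i : ℤ) : (mid φ).X i ⟶ T.X i := (biprod.fst : T.X i ⊞ E.X i ⟶ T.X i)

/-- the projection to `E` in each degree -/
noncomputable def prE (i : ℤ) : (mid φ).X i ⟶ E.X i := (biprod.snd : T.X i ⊞ E.X i ⟶ E.X i)

@[reassoc (attr := simp)]
lemma inT_prT (i : ℤ) : inT φ i ≫ prT φ i = 𝟙 _ := biprod.inl_fst

@[reassoc (attr := simp)]
lemma inT_prE (i : ℤ) : inT φ i ≫ prE φ i = 0 := biprod.inl_snd

@[reassoc (attr := simp)]
lemma inE_prT (i : ℤ) : inE φ i ≫ prT φ i = 0 := biprod.inr_fst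

@[reassoc (attr := simp)]
lemma inE_prE (i : ℤ) : inE φ i ≫ prE φ i = 𝟙 _ := biprod.inr_snd

lemma mid_ext_to {i : ℤ} {A : C} {f g : A ⟶ (mid φ).X i} (h₁ : f ≫ prT φ i = g ≫ prT φ i)
    (h₂ : f ≫ prE φ i = g ≫ prE φ i) : f = g := biprod.hom_ext _ _ h₁ h₂

lemma mid_ext_from {i : ℤ} {A : C} {f g : (mid φ).X i ⟶ A} (h₁ : inT φ i ≫ f = inT φ i ≫ g)
    (h₂ : inE φ i ≫ f = inE φ i ≫ g) : f = g := biprod.hom_ext' _ _ h₁ h₂

/-- the element of `mid` with components `t`, `e` -/
noncomputable def lift' {i : ℤ} {A : C} (t : A ⟶ T.X i) (e : A ⟶ E.X i) : A ⟶ (mid φ).X i :=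
  t ≫ inT φ i + e ≫ inE φ i

@[reassoc (attr := simp)]
lemma lift'_prT {i : ℤ} {A : C} (t : A ⟶ T.X i) (e : A ⟶ E.X i) :
    lift' φ t e ≫ prT φ i = t := by simp [lift']

@[reassoc (attr := simp)]
lemma lift'_prE {i : ℤ} {A : C} (t : A ⟶ T.X i) (e : A ⟶ E.X i) :
    lift' φ t e ≫ prE φ i = e := by simp [lift']

lemma inT_d (i j : ℤ) (hij : i + 1 = j) :
    inT φ i ≫ (mid φ).d i j = T.d i j ≫ inT φ j - zc φ i j hij ≫ inE φ j := by
  subst hij
  have hd : (mid φ).d i (i + 1) = (biprod.desc (biprod.lift (T.d i (i + 1)) (-zc φ i (i + 1) rfl))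
      (biprod.lift 0 (E.d i (i + 1))) : T.X i ⊞ E.X i ⟶ T.X (i + 1) ⊞ E.X (i + 1)) := by
    simp [mid]
  rw [hd]
  refine (biprod.inl_desc _ _).trans ?_
  apply mid_ext_to φ <;> rw [Preadditive.sub_comp, Category.assoc, Category.assoc]
  · erw [biprod.lift_fst]; simp
  · erw [biprod.lift_snd]; simp

lemma inE_d (i j : ℤ) (hij : i + 1 = j) :
    inE φ i ≫ (mid φ).d i j = E.d i j ≫ inE φ j := by
  subst hij
  have hd : (mid φ).d i (i + 1) = (biprod.desc (biprod.lift (T.d i (i + 1)) (-zc φ i (i + 1) rfl))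
      (biprod.lift 0 (E.d i (i + 1))) : T.X i ⊞ E.X i ⟶ T.X (i + 1) ⊞ E.X (i + 1)) := by
    simp [mid]
  rw [hd]
  refine (biprod.inr_desc _ _).trans ?_
  apply mid_ext_to φ <;> rw [Category.assoc]
  · erw [biprod.lift_fst]; simp
  · erw [biprod.lift_snd]; simp

lemma lift'_d (i j : ℤ) (hij : i + 1 = j) {A : C} (t : A ⟶ T.X i) (e : A ⟶ E.X i) :
    lift' φ t e ≫ (mid φ).d i j =
      lift' φ (t ≫ T.d i j) (-(t ≫ zc φ i j hij) + e ≫ E.d i j) := by
  simp only [lift', Preadditive.add_comp, Preadditive.neg_comp, Category.assoc, inT_d φ i j hij,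
    inE_d φ i j hij, Preadditive.comp_sub]
  abel

/-- `E ⟶ mid` -/
noncomputable def v : E ⟶ mid φ where
  f i := inE φ i
  comm' i j hij := inE_d φ i j hij

/-- the map to `F` in each degree -/
noncomputable def u'f (i : ℤ) : (mid φ).X i ⟶ F.X i :=
  prT φ i ≫ hc φ i + prE φ i ≫ u.f i

/-- `mid ⟶ F` -/
noncomputable def u' : mid φ ⟶ F where
  f i := u'f φ i
  comm' i j hij := by
    obtain rfl : i + 1 = j := hij
    apply mid_ext_from φ
    · rw [reassoc_of% (inT_d φ i (i + 1) rfl)]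
      simp [u'f, hc_d φ i (i + 1) rfl]
    · rw [reassoc_of% (inE_d φ i (i + 1) rfl)]
      simp [u'f]

lemma v_f (i : ℤ) : (v φ).f i = inE φ i := rfl

lemma u'_f (i : ℤ) : (u' φ).f i = u'f φ i := rfl

@[reassoc (attr := simp)]
lemma v_u' : v φ ≫ u' φ = u := by
  ext i
  simp [v_f, u'_f, u'f]

lemma lift'_u' {i : ℤ} {A : C} (t : A ⟶ T.X i) (e : A ⟶ E.X i) :
    lift' φ t e ≫ (u' φ).f i = t ≫ hc φ i + e ≫ u.f i := by
  simp [u'_f, u'f]

instance (i : ℤ) : Mono ((v φ).f i) :=
  SplitMono.mono ⟨prE φ i, inE_prE φ i⟩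

lemma isIso_v_f (i : ℤ) (h : IsZero (T.X i)) : IsIso ((v φ).f i) :=
  ⟨prE φ i, inE_prE φ i, mid_ext_from φ (h.eq_of_src _ _) (by simp [v_f])⟩

/-- the cokernel of `v` in degree `i` is `T.X i` -/
noncomputable def cokernelV (i : ℤ) : cokernel ((v φ).f i) ≅ T.X i where
  hom := cokernel.desc _ (prT φ i) (by rw [v_f, inE_prT])
  inv := inT φ i ≫ cokernel.π ((v φ).f i)
  hom_inv_id := by
    apply coequalizer.hom_ext
    rw [cokernel.π_desc_assoc]
    apply mid_ext_from φ
    · simp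
    · rw [inE_prT_assoc, zero_comp, ← v_f, Category.comp_id, cokernel.condition]
  inv_hom_id := by rw [Category.assoc, cokernel.π_desc, inT_prT]

/-- an element of the mapping cone with prescribed components -/
noncomputable def coneLift (i j : ℤ) (h : i + 1 = j) {A : C} (e : A ⟶ E.X j) (f : A ⟶ F.X i) :
    A ⟶ (mappingCone u).X i :=
  e ≫ (mappingCone.inl u).v j i (by omega) + f ≫ (mappingCone.inr u).f i

@[reassoc (attr := simp)]
lemma coneLift_fst (i j : ℤ) (h : i + 1 = j) {A : C} (e : A ⟶ E.X j) (f : A ⟶ F.X i) :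
    coneLift (u := u) i j h e f ≫ (mappingCone.fst u).1.v i j h = e := by
  simp [coneLift]

@[reassoc (attr := simp)]
lemma coneLift_snd (i j : ℤ) (h : i + 1 = j) {A : C} (e : A ⟶ E.X j) (f : A ⟶ F.X i) :
    coneLift (u := u) i j h e f ≫ (mappingCone.snd u).v i i (add_zero i) = f := by
  simp [coneLift]

omit φ in
lemma cone_d_fst (i j k : ℤ) (hij : i + 1 = j) (hjk : j + 1 = k) {A : C}
    (x : A ⟶ (mappingCone u).X i) :
    (x ≫ (mappingCone u).d i j) ≫ (mappingCone.fst u).1.v j k hjk =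
      -((x ≫ (mappingCone.fst u).1.v i j hij) ≫ E.d j k) := by
  simp [mappingCone.d_fst_v u i j k hij hjk]

omit φ in
lemma cone_d_snd (i j : ℤ) (hij : i + 1 = j) {A : C}
    (x : A ⟶ (mappingCone u).X i) :
    (x ≫ (mappingCone u).d i j) ≫ (mappingCone.snd u).v j j (add_zero j) =
      (x ≫ (mappingCone.fst u).1.v i j hij) ≫ u.f j +
        (x ≫ (mappingCone.snd u).v i i (add_zero i)) ≫ F.d i j := by
  simp [mappingCone.d_snd_v u i j hij]

theorem epi_homologyMap_u' (i : ℤ) (h : Epi (HomologicalComplex.homologyMap φ i)) :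
    Epi (HomologicalComplex.homologyMap (u' φ) i) := by
  rw [HomologicalComplex.epi_homologyMap_iff_up_to_refinements _ (i - 1) i (i + 1)
    (by simp) (by simp)] at h ⊢
  intro A y hy
  obtain ⟨A', π, hπ, t, ht, c, hc'⟩ := h (coneLift i (i + 1) rfl 0 y) (by
    apply mappingCone.ext_to u _ (i + 1 + 1) rfl
    · rw [cone_d_fst i (i + 1) _ rfl rfl]; simp
    · rw [cone_d_snd i (i + 1) rfl]; simp [hy])
  have h1 := congrArg (fun g => g ≫ (mappingCone.fst u).1.v i (i + 1) rfl) hc'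
  have h2 := congrArg (fun g => g ≫ (mappingCone.snd u).v i i (add_zero i)) hc'
  simp only [Preadditive.add_comp, cone_d_fst (i - 1) i (i + 1) (by omega) rfl,
    cone_d_snd (i - 1) i (by omega)] at h1 h2
  simp only [Category.assoc, coneLift_fst, coneLift_snd, comp_zero] at h1 h2
  refine ⟨A', π, hπ, lift' φ t (c ≫ (mappingCone.fst u).1.v (i - 1) i (by omega)), ?_,
    c ≫ (mappingCone.snd u).v (i - 1) (i - 1) (add_zero _), ?_⟩
  · rw [lift'_d φ i (i + 1) rfl]
    apply mid_ext_to φ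
    · simp [ht]
    · rw [lift'_prE, zero_comp, Category.assoc]
      simp only [zc]
      rw [eq_neg_of_add_eq_zero_left (a := t ≫ φ.f i ≫ _) h1.symm]
      simp
  · rw [h2, lift'_u']
    simp [hc, add_assoc]

theorem mono_homologyMap_u' (i : ℤ) (h : Mono (HomologicalComplex.homologyMap φ i))
    (h' : Epi (HomologicalComplex.homologyMap φ (i - 1))) :
    Mono (HomologicalComplex.homologyMap (u' φ) i) := by
  rw [HomologicalComplex.mono_homologyMap_iff_up_to_refinements _ (i - 1) i (i + 1)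
    (by simp) (by simp)] at h ⊢
  rw [HomologicalComplex.epi_homologyMap_iff_up_to_refinements _ (i - 1 - 1) (i - 1) i
    (by simp) (by simp)] at h'
  intro A x hx y hy
  obtain ⟨t, e, rfl⟩ : ∃ (t : A ⟶ T.X i) (e : A ⟶ E.X i), lift' φ t e = x :=
    ⟨x ≫ prT φ i, x ≫ prE φ i, mid_ext_to φ (by simp) (by simp)⟩
  rw [lift'_d φ i (i + 1) rfl] at hx
  have hx1 : t ≫ T.d i (i + 1) = 0 := by simpa using congrArg (fun g => g ≫ prT φ (i + 1)) hx
  have hx2 : e ≫ E.d i (i + 1) = t ≫ zc φ i (i + 1) rfl := by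
    have := congrArg (fun g => g ≫ prE φ (i + 1)) hx
    simp only [lift'_prE, zero_comp] at this
    exact (neg_add_eq_zero.1 this).symm
  rw [lift'_u'] at hy
  obtain ⟨A₁, π₁, _, t₁, ht₁⟩ := h t hx1 (coneLift (i - 1) i (by omega) (-e) y) (by
    apply mappingCone.ext_to u i (i + 1) rfl
    · rw [cone_d_fst (i - 1) i (i + 1) (by omega) rfl, coneLift_fst, Category.assoc,
        Preadditive.neg_comp, neg_neg, hx2]
      rfl
    · rw [cone_d_snd (i - 1) i (by omega), coneLift_fst, coneLift_snd, Category.assoc,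
        Preadditive.neg_comp, ← hy]
      simp [hc])
  have hzd := congrArg (fun g => t₁ ≫ g) (zc_d φ (i - 1) i (i + 1) (by omega) rfl)
  simp only [Preadditive.comp_neg, ← Category.assoc, ← ht₁] at hzd
  have hhd := congrArg (fun g => t₁ ≫ g) (hc_d φ (i - 1) i (by omega))
  simp only [Preadditive.comp_add, ← Category.assoc, ← ht₁] at hhd
  obtain ⟨A₂, π₂, _, t₂, ht₂, c, hc'⟩ := h'
    (coneLift (i - 1) i (by omega) (π₁ ≫ e + t₁ ≫ zc φ (i - 1) i (by omega))
      (-(π₁ ≫ y - t₁ ≫ hc φ (i - 1)))) (by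
    apply mappingCone.ext_to u i (i + 1) rfl
    · rw [cone_d_fst (i - 1) i (i + 1) (by omega) rfl, coneLift_fst]
      simp only [Preadditive.add_comp, Category.assoc, hx2, zero_comp] at hzd ⊢
      rw [hzd]
      simp
    · rw [cone_d_snd (i - 1) i (by omega), coneLift_fst, coneLift_snd]
      simp only [Preadditive.neg_comp, Preadditive.sub_comp, Preadditive.add_comp, Category.assoc,
        zero_comp] at hhd ⊢
      rw [← hy, Preadditive.comp_add, hhd]
      abel)
  have h1 := congrArg (fun g => g ≫ (mappingCone.fst u).1.v (i - 1) i (by omega)) hc'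
  simp only [Preadditive.add_comp, cone_d_fst (i - 1 - 1) (i - 1) i (by omega) (by omega)] at h1
  simp only [Category.assoc, coneLift_fst, Preadditive.comp_add] at h1
  refine ⟨A₂, π₂ ≫ π₁, inferInstance, lift' φ (π₂ ≫ t₁ - t₂)
    (-(c ≫ (mappingCone.fst u).1.v (i - 1 - 1) (i - 1) (by omega))), ?_⟩
  rw [lift'_d φ (i - 1) i (by omega)]
  apply mid_ext_to φ
  · simp [ht₁, ht₂]
  · simp only [Category.assoc, lift'_prE, Preadditive.sub_comp, Preadditive.neg_comp]
    rw [show t₂ ≫ zc φ (i - 1) i (by omega) = t₂ ≫ φ.f (i - 1) ≫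
        (mappingCone.fst u).1.v (i - 1) i (by omega) from rfl, eq_sub_of_add_eq h1]
    abel

theorem isIso_homologyMap_u' (i : ℤ) (h : IsIso (HomologicalComplex.homologyMap φ i))
    (h' : Epi (HomologicalComplex.homologyMap φ (i - 1))) :
    IsIso (HomologicalComplex.homologyMap (u' φ) i) :=
  have := mono_homologyMap_u' φ i inferInstance h'
  have := epi_homologyMap_u' φ i inferInstance
  isIso_of_mono_of_epi _

end Groth.Agent.DHA.Modify
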