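/-
n-quasi-isomorphisms, their mapping cones, and the two modification steps.
-/
import Groth.Agent.DHA.Modify
import Groth.Agent.DHA.FiniteType
import Mathlib.Algebra.Homology.SingleHomology
import Mathlib.Algebra.Homology.Embedding.CochainComplex
import Mathlib.Algebra.Homology.HomotopyCategory.Acyclic
import Mathlib.Algebra.Homology.HomotopyCategory.Triangulated

universe v u

open CategoryTheory CategoryTheory.Limits CochainComplex

namespace Groth.Agent.DHA.PCohQis

variable {C : Type u} [Category.{v} C] [Abelian C]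

/-- `u` is an isomorphism on homology in degrees `> n` and an epimorphism in degree `n`. -/
def IsQisN {E X : CochainComplex C ℤ} (u : E ⟶ X) (n : ℤ) : Prop :=
  (∀ i : ℤ, n < i → IsIso (HomologicalComplex.homologyMap u i)) ∧
    Epi (HomologicalComplex.homologyMap u n)

lemma IsQisN.epi {E X : CochainComplex C ℤ} {u : E ⟶ X} {n : ℤ} (h : IsQisN u n) (i : ℤ)
    (hi : n ≤ i) : Epi (HomologicalComplex.homologyMap u i) := by
  rcases hi.lt_or_eq with hi | hi
  · have := h.1 i hi
    infer_instance
  · exact hi ▸ h.2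

lemma IsQisN.mono {E X : CochainComplex C ℤ} {u : E ⟶ X} {n : ℤ} (h : IsQisN u n) (m : ℤ)
    (hm : n ≤ m) : IsQisN u m :=
  ⟨fun i hi => h.1 i (hm.trans_lt hi), h.epi m hm⟩

lemma IsQisN.of_quasiIso {E X : CochainComplex C ℤ} (u : E ⟶ X) [QuasiIso u] (n : ℤ) :
    IsQisN u n := by
  have : ∀ i, IsIso (HomologicalComplex.homologyMap u i) := fun i => inferInstance
  exact ⟨fun i _ => this i, inferInstance⟩

lemma IsQisN.comp {E X Y : CochainComplex C ℤ} {u : E ⟶ X} {f : X ⟶ Y} {n : ℤ}
    (h : IsQisN u n) (hf : IsQisN f n) : IsQisN (u ≫ f) n := by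
  refine ⟨fun i hi => ?_, ?_⟩
  · have := h.1 i hi
    have := hf.1 i hi
    rw [HomologicalComplex.homologyMap_comp]
    infer_instance
  · have := h.2
    have := hf.2
    rw [HomologicalComplex.homologyMap_comp]
    infer_instance

/-- a map from a complex with vanishing homology to one with vanishing homology -/
lemma isQisN_of_isZero {E X : CochainComplex C ℤ} (u : E ⟶ X) (n : ℤ)
    (hE : ∀ i, n < i → IsZero (E.homology i)) (hX : ∀ i, n ≤ i → IsZero (X.homology i)) :
    IsQisN u n :=
  ⟨fun i hi => isIso_of_isZero (hE i hi) (hX i hi.le) _,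
    ⟨fun _ _ _ => (hX n le_rfl).eq_of_src _ _⟩⟩
where
  isIso_of_isZero {A B : C} (hA : IsZero A) (hB : IsZero B) (f : A ⟶ B) : IsIso f :=
    ⟨0, hA.eq_of_src _ _, hB.eq_of_src _ _⟩

theorem exactAt_cone {E X : CochainComplex C ℤ} {u : E ⟶ X} {n : ℤ} (h : IsQisN u n) (i : ℤ)
    (hi : n ≤ i) : (mappingCone u).ExactAt i := by
  rw [HomologicalComplex.exactAt_iff_exact_up_to_refinements _ (i - 1) i (i + 1)
    (by simp) (by simp)]
  intro A x hx
  have := h.1 (i + 1) (by omega)
  have hmono : Mono (HomologicalComplex.homologyMap u (i + 1)) := inferInstance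
  rw [HomologicalComplex.mono_homologyMap_iff_up_to_refinements _ i (i + 1) (i + 1 + 1)
    (by simp) (by simp)] at hmono
  have hepi := h.epi i hi
  rw [HomologicalComplex.epi_homologyMap_iff_up_to_refinements _ (i - 1) i (i + 1)
    (by simp) (by simp)] at hepi
  have h1 := congrArg (fun g => g ≫ (mappingCone.fst u).1.v (i + 1) (i + 1 + 1) rfl) hx
  have h2 := congrArg (fun g => g ≫ (mappingCone.snd u).v (i + 1) (i + 1) (add_zero _)) hx
  rw [Modify.cone_d_fst i (i + 1) (i + 1 + 1) rfl rfl, zero_comp, neg_eq_zero] at h1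
  rw [Modify.cone_d_snd i (i + 1) rfl, zero_comp] at h2
  obtain ⟨A₁, π₁, _, e₁, he₁⟩ := hmono _ h1 (-(x ≫ (mappingCone.snd u).v i i (add_zero i)))
    (by rw [eq_neg_of_add_eq_zero_left h2, Preadditive.neg_comp])
  obtain ⟨A₂, π₂, _, a, ha, f₁, hf₁⟩ := hepi
    (π₁ ≫ x ≫ (mappingCone.snd u).v i i (add_zero i) + e₁ ≫ u.f i) (by
      rw [Preadditive.add_comp, Category.assoc, Category.assoc, Category.assoc, u.comm,
        ← reassoc_of% he₁, ← Preadditive.comp_add]
      simp only [Category.assoc] at h2
      exact (congrArg (fun g => π₁ ≫ g) ((add_comm _ _).trans h2)).trans comp_zero)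
  refine ⟨A₂, π₂ ≫ π₁, inferInstance,
    Modify.coneLift (i - 1) i (by omega) (a - π₂ ≫ e₁) f₁, ?_⟩
  apply mappingCone.ext_to u i (i + 1) rfl
  · rw [Modify.cone_d_fst (i - 1) i (i + 1) (by omega) rfl, Modify.coneLift_fst]
    simp [ha, he₁]
  · rw [Modify.cone_d_snd (i - 1) i (by omega), Modify.coneLift_fst, Modify.coneLift_snd]
    simp only [Preadditive.comp_add] at hf₁
    simp only [Category.assoc, Preadditive.sub_comp]
    rw [eq_sub_of_add_eq hf₁]
    abel

lemma isZero_homology_cone {E X : CochainComplex C ℤ} {u : E ⟶ X} {n : ℤ} (h : IsQisN u n)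
    (i : ℤ) (hi : n ≤ i) : IsZero ((mappingCone u).homology i) :=
  (exactAt_cone h i hi).isZero_homology

/-- the map `Cone u ⟶ Cone (u ≫ s)` is a quasi-isomorphism when `s` is one -/
theorem nonempty_homology_cone_iso {E X G : CochainComplex C ℤ} (u : E ⟶ X) (s : X ⟶ G)
    [QuasiIso s] (i : ℤ) :
    Nonempty ((mappingCone u).homology i ≅ (mappingCone (u ≫ s)).homology i) := by
  let a : mappingCone u ⟶ mappingCone (u ≫ s) := (mappingConeCompTriangle u s).mor₁
  have hW : HomotopyCategory.quasiIso C (ComplexShape.up ℤ)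
      ((HomotopyCategory.quotient C (ComplexShape.up ℤ)).map a) := by
    rw [HomotopyCategory.quasiIso_eq_subcategoryAcyclic_W]
    refine ObjectProperty.trW.mk _ (HomotopyCategory.mappingConeCompTriangleh_distinguished u s) ?_
    change (HomotopyCategory.subcategoryAcyclic C)
      ((HomotopyCategory.quotient C (ComplexShape.up ℤ)).obj (mappingCone s))
    rw [HomotopyCategory.quotient_obj_mem_subcategoryAcyclic_iff_exactAt]
    exact fun j => exactAt_cone (IsQisN.of_quasiIso s j) j le_rfl
  rw [HomotopyCategory.quotient_map_mem_quasiIso_iff] at hW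
  have : QuasiIso a := hW
  exact ⟨asIso (HomologicalComplex.homologyMap a i)⟩

/-- first modification: by the truncation of the cone -/
theorem exists_tau {E X : CochainComplex C ℤ} {u : E ⟶ X} {n : ℤ} (h : IsQisN u n) :
    ∃ (E' : CochainComplex C ℤ) (v : E ⟶ E') (u' : E' ⟶ X), v ≫ u' = u ∧ QuasiIso u' ∧
      (∀ i, Mono (v.f i)) ∧ ∀ i, n ≤ i → IsIso (v.f i) := by
  have : (mappingCone u).IsLE (n - 1) := by
    rw [CochainComplex.isLE_iff]
    exact fun i hi => exactAt_cone h i (by omega)
  let φ := (mappingCone u).ιTruncLE (n - 1)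
  have hφ : ∀ i, IsIso (HomologicalComplex.homologyMap φ i) := fun i => inferInstance
  refine ⟨_, Modify.v φ, Modify.u' φ, Modify.v_u' φ, ⟨fun i => ?_⟩, fun i => inferInstance,
    fun i hi => Modify.isIso_v_f φ i (((mappingCone u).truncLE (n - 1)).isZero_of_isStrictlyLE
      (n - 1) i (by omega))⟩
  rw [quasiIsoAt_iff_isIso_homologyMap]
  exact Modify.isIso_homologyMap_u' φ i (hφ i) (by have := hφ (i - 1); infer_instance)

/-- second modification: killing the top homology of the cone by an object of `P` -/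
theorem exists_step {P : ObjectProperty C} [P.IsClosedUnderIsomorphisms]
    (hsum : ∀ X Y : C, P X → P Y → P (X ⨯ Y)) (hql : PCoh.IsQuasiLiftable P)
    {E X : CochainComplex C ℤ} {u : E ⟶ X} {m : ℤ} (h : IsQisN u (m + 1))
    (hft : PCoh.IsOfFiniteType P ((mappingCone u).homology m)) :
    ∃ (E' : CochainComplex C ℤ) (v : E ⟶ E') (u' : E' ⟶ X), v ≫ u' = u ∧
      (∀ i, Mono (v.f i)) ∧ (∀ i, i ≠ m → IsIso (v.f i)) ∧ P (cokernel (v.f m)) ∧
      (P (E.X m) → P (E'.X m)) ∧ IsQisN u' m := by
  obtain ⟨E₀, π, hE₀, hπ⟩ := hft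
  obtain ⟨F, q, w, hF, hq, hw⟩ :=
    FiniteType.exists_lift hql ((mappingCone u).homologyπ m) hE₀ π
  let φ : (HomologicalComplex.single C (ComplexShape.up ℤ) m).obj F ⟶ mappingCone u :=
    HomologicalComplex.mkHomFromSingle (w ≫ (mappingCone u).iCycles m) (fun k _ => by simp)
  let T := (HomologicalComplex.single C (ComplexShape.up ℤ) m).obj F
  have hepi : Epi (HomologicalComplex.homologyMap φ m) := by
    let s := HomologicalComplex.singleObjHomologySelfIso (ComplexShape.up ℤ) m F
    have : s.inv ≫ HomologicalComplex.homologyMap φ m = w ≫ (mappingCone u).homologyπ m := by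
      have hc : (HomologicalComplex.singleObjCyclesSelfIso (ComplexShape.up ℤ) m F).inv ≫
          HomologicalComplex.cyclesMap φ m = w := by
        rw [← cancel_mono ((mappingCone u).iCycles m), Category.assoc,
          HomologicalComplex.cyclesMap_i,
          HomologicalComplex.singleObjCyclesSelfIso_inv_iCycles_assoc]
        simp [φ]
      simp only [s]
      rw [← HomologicalComplex.singleObjCyclesSelfIso_inv_homologyπ, Category.assoc,
        HomologicalComplex.homologyπ_naturality, reassoc_of% hc]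
    have h2 : Epi (s.inv ≫ HomologicalComplex.homologyMap φ m) := by
      rw [this, hw]; infer_instance
    exact epi_of_epi s.inv _
  have hiso : ∀ i, m < i → IsIso (HomologicalComplex.homologyMap φ i) := fun i hi =>
    isQisN_of_isZero.isIso_of_isZero
      (HomologicalComplex.isZero_single_obj_homology (ComplexShape.up ℤ) m F i (by omega))
      (isZero_homology_cone h i (by omega)) _
  have hepi' : ∀ i, m ≤ i → Epi (HomologicalComplex.homologyMap φ i) := fun i hi => by
    rcases hi.lt_or_eq with hi | rfl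
    · have := hiso i hi; infer_instance
    · exact hepi
  have hm : P (T.X m) :=
    P.prop_of_iso (HomologicalComplex.singleObjXSelf (ComplexShape.up ℤ) m F).symm hF
  refine ⟨_, Modify.v φ, Modify.u' φ, Modify.v_u' φ, fun i => inferInstance,
    fun i hi => Modify.isIso_v_f φ i (HomologicalComplex.isZero_single_obj_X _ m F i hi),
    P.prop_of_iso (Modify.cokernelV φ m).symm hm, fun hP => FiniteType.biprod_mem hsum hm hP,
    fun i hi => Modify.isIso_homologyMap_u' φ i (hiso i hi) (hepi' (i - 1) (by omega)),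
    Modify.epi_homologyMap_u' φ m hepi⟩

end Groth.Agent.DHA.PCohQis
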