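/-
Finite type of the top homology of a strictly pseudo-coherent complex.
-/
import Groth.Agent.DHA.PCohQis
import Mathlib.Algebra.Homology.Augment

universe v u

open CategoryTheory CategoryTheory.Limits

namespace Groth.Agent.DHA.PCohFT

variable {C : Type u} [Category.{v} C] [Abelian C]

/-- the top homology of a strictly `n`-pseudo-coherent complex acyclic above `n` is of finite type -/
def TopFT (P : ObjectProperty C) : Prop :=
  ∀ (n : ℤ) (E : CochainComplex C ℤ), PCoh.IsStrictPC P n E →
    (∀ i : ℤ, n < i → IsZero (E.homology i)) → PCoh.IsOfFiniteType P (E.homology n)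

/-- the part of `E` in degrees `≥ n`, reindexed by `ℕ` -/
noncomputable def tail (E : CochainComplex C ℤ) (n : ℤ) : CochainComplex C ℕ :=
  CochainComplex.of (fun k => E.X (n + (k : ℤ))) (fun k => E.d _ _) (fun _ => E.d_comp_d _ _ _)

lemma tail_d (E : CochainComplex C ℤ) (n : ℤ) (k : ℕ) :
    (tail E n).d k (k + 1) = E.d (n + (k : ℤ)) (n + ((k + 1 : ℕ) : ℤ)) :=
  by simp [tail]

theorem topFT_of_quasiStable {P : ObjectProperty C} (hqs : PCoh.IsQuasiStableUnderKernels P) :
    TopFT P := by
  intro n E hE hac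
  obtain ⟨⟨b, hb⟩, hP⟩ := hE
  let f : E.cycles n ⟶ (tail E n).X 0 := E.iCycles n ≫ (E.XIsoOfEq (by simp : n = n + ((0 : ℕ) : ℤ))).hom
  have w : f ≫ (tail E n).d 0 1 = 0 := by
    rw [tail_d]
    change (E.iCycles n ≫ (E.XIsoOfEq _).hom) ≫ E.d _ _ = 0
    simp
  let K := (tail E n).augment f w
  have hft : PCoh.IsOfFiniteType P (K.X 0) := by
    refine hqs K ?_ ⟨(b - n).toNat + 1, ?_⟩ ?_
    · intro j
      match j with
      | 0 =>
        rw [HomologicalComplex.exactAt_iff_exact_up_to_refinements K 0 0 1 (by simp) (by simp)]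
        intro A x hx
        let x' : A ⟶ E.cycles n := x
        have hx' : x' ≫ f = 0 := hx
        have : Mono f := by
          have : Mono (E.iCycles n ≫ (E.XIsoOfEq (by simp : n = n + ((0 : ℕ) : ℤ))).hom) :=
            inferInstance
          exact this
        refine ⟨A, 𝟙 A, inferInstance, 0, ?_⟩
        rw [zero_comp]
        change 𝟙 A ≫ x' = 0
        rw [Category.id_comp, ← cancel_mono f, zero_comp]
        exact hx'
      | 1 =>
        rw [HomologicalComplex.exactAt_iff_exact_up_to_refinements K 0 1 2 (by simp) (by simp)]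
        intro A x hx
        change x ≫ (tail E n).d 0 1 = 0 at hx
        rw [tail_d] at hx
        let x' : A ⟶ E.X (n + ((0 : ℕ) : ℤ)) := x
        let e := E.XIsoOfEq (by simp : n = n + ((0 : ℕ) : ℤ))
        have hx' : (x' ≫ e.inv) ≫ E.d n (n + 1) = 0 := by
          rw [Category.assoc, HomologicalComplex.XIsoOfEq_inv_comp_d]
          have : n + ((0 + 1 : ℕ) : ℤ) = n + 1 := by simp
          rw [← HomologicalComplex.d_comp_XIsoOfEq_hom E this, ← Category.assoc]
          erw [hx]
          exact zero_comp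
        refine ⟨A, 𝟙 A, inferInstance, E.liftCycles (x' ≫ e.inv) (n + 1) (by simp) hx', ?_⟩
        change 𝟙 A ≫ x' = E.liftCycles (x' ≫ e.inv) (n + 1) (by simp) hx' ≫ E.iCycles n ≫ e.hom
        simp
      | k + 2 =>
        rw [HomologicalComplex.exactAt_iff_exact_up_to_refinements K (k + 1) (k + 2) (k + 3)
          (by simp) (by simp)]
        intro A x hx
        change x ≫ (tail E n).d (k + 1) (k + 2) = 0 at hx
        rw [tail_d] at hx
        have hex : E.ExactAt (n + ((k + 1 : ℕ) : ℤ)) := by
          rw [HomologicalComplex.exactAt_iff_isZero_homology]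
          exact hac _ (by omega)
        rw [HomologicalComplex.exactAt_iff_exact_up_to_refinements E (n + (k : ℤ)) _
          (n + ((k + 2 : ℕ) : ℤ)) (by simp; omega) (by simp; omega)] at hex
        obtain ⟨A', π, hπ, y, hy⟩ := hex x hx
        refine ⟨A', π, hπ, y, ?_⟩
        change _ = y ≫ (tail E n).d k (k + 1)
        rw [tail_d]
        exact hy
    · intro i hi
      obtain ⟨k, rfl⟩ : ∃ k, i = k + 1 := ⟨i - 1, by omega⟩
      exact hb (n + (k : ℤ)) (by omega)
    · intro i hi
      obtain ⟨k, rfl⟩ : ∃ k, i = k + 1 := ⟨i - 1, by omega⟩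
      exact hP (n + (k : ℤ)) (by omega)
  have hft' : PCoh.IsOfFiniteType P (E.cycles n) := hft
  exact FiniteType.finiteType_of_epi hft' (E.homologyπ n)

theorem quasiStable_of_coherent {P : ObjectProperty C}
    (hcoh : ∀ (X E : C) (u : E ⟶ X), P X → P E → PCoh.IsOfFiniteType P (kernel u)) :
    PCoh.IsQuasiStableUnderKernels P := by
  intro K hK _ hP
  let S : ShortComplex C := ShortComplex.mk (K.d 0 1) (K.d 1 2) (K.d_comp_d _ _ _)
  have hex : S.Exact := (K.exactAt_iff' 0 1 2 (by simp) (by simp)).1 (hK 1)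
  have : Mono S.f := by
    have h0 := (K.exactAt_iff' 0 0 1 (by simp) (by simp)).1 (hK 0)
    exact h0.mono_g (K.shape _ _ (by simp))
  have hk := hcoh _ _ (K.d 1 2) (hP 2 (by omega)) (hP 1 (by omega))
  have := FiniteType.finiteType_of_epi hk
    (hex.fIsKernel.conePointUniqueUpToIso (kernelIsKernel S.g)).inv
  exact this

end Groth.Agent.DHA.PCohFT
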