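/-
Pseudo-coherence over a quasi-liftable subcategory: approximation of complexes by strictly
pseudo-coherent ones, and stability under cones and shifts in the derived category.
-/
import Groth.Agent.DHA.PCohFT
import Mathlib.Algebra.Homology.DerivedCategory.Fractions

universe w v u

open CategoryTheory CategoryTheory.Limits ZeroObject

namespace Groth.Agent.DHA.PCohCore

open PCohQis PCohFT

variable {C : Type u} [Category.{v} C] [Abelian C] {P : ObjectProperty C}

/-- The finite type condition needed to improve approximations of `X` by one degree. -/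
def Good (P : ObjectProperty C) (n : ℤ) (X : CochainComplex C ℤ) : Prop :=
  ∀ (m : ℤ), n ≤ m → ∀ (E : CochainComplex C ℤ) (u : E ⟶ X), PCoh.IsStrictPC P n E →
    IsQisN u (m + 1) → PCoh.IsOfFiniteType P ((CochainComplex.mappingCone u).homology m)

lemma isStrictPC_mono {n m : ℤ} {E : CochainComplex C ℤ} (h : PCoh.IsStrictPC P n E)
    (hnm : n ≤ m) : PCoh.IsStrictPC P m E :=
  ⟨h.1, fun i hi => h.2 i (hnm.trans hi)⟩

lemma isStrictPC_of_all {E : CochainComplex C ℤ} (h : PCoh.IsStrictPCAll P E) (n : ℤ) :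
    PCoh.IsStrictPC P n E :=
  ⟨h.1, fun i _ => h.2 i⟩

lemma isZero_zero_X (i : ℤ) : IsZero ((0 : CochainComplex C ℤ).X i) :=
  (HomologicalComplex.eval C (ComplexShape.up ℤ) i).map_isZero (isZero_zero _)

lemma isZero_zero_homology (i : ℤ) : IsZero ((0 : CochainComplex C ℤ).homology i) :=
  (HomologicalComplex.homologyFunctor C (ComplexShape.up ℤ) i).map_isZero (isZero_zero _)

lemma isQisN_zero {X : CochainComplex C ℤ} {n : ℤ} (h : ∀ i, n ≤ i → IsZero (X.homology i)) :
    IsQisN (0 : (0 : CochainComplex C ℤ) ⟶ X) n :=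
  isQisN_of_isZero _ _ (fun i _ => isZero_zero_homology i) h

lemma isStrictPCAll_zero [P.ContainsZero] [P.IsClosedUnderIsomorphisms] :
    PCoh.IsStrictPCAll P (0 : CochainComplex C ℤ) :=
  ⟨⟨0, fun i _ => isZero_zero_X i⟩, fun i => P.prop_of_isZero (isZero_zero_X i)⟩

lemma isZero_homology_of_isZero_X (E : CochainComplex C ℤ) (i : ℤ) (h : IsZero (E.X i)) :
    IsZero (E.homology i) :=
  (HomologicalComplex.exactAt_iff_isZero_homology E i).1
    (ShortComplex.exact_of_isZero_X₂ _ h)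

section Cone

variable [P.IsClosedUnderIsomorphisms] (hsum : ∀ X Y : C, P X → P Y → P (X ⨯ Y))

include hsum

lemma isStrictPC_cone {n : ℤ} {E G : CochainComplex C ℤ} (u : E ⟶ G)
    (hE : PCoh.IsStrictPC P (n + 1) E) (hG : PCoh.IsStrictPC P n G) :
    PCoh.IsStrictPC P n (CochainComplex.mappingCone u) := by
  obtain ⟨⟨b, hb⟩, hPE⟩ := hE
  obtain ⟨⟨c, hc⟩, hPG⟩ := hG
  refine ⟨⟨max b c, fun i hi => ?_⟩, fun i hi => ?_⟩
  · exact IsZero.of_iso (by
      rw [IsZero.iff_id_eq_zero]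
      exact biprod.hom_ext' _ _ ((hb (i + 1) (by omega)).eq_of_src _ _)
        ((hc i (by omega)).eq_of_src _ _))
      (HomologicalComplex.homotopyCofiber.XIsoBiprod u i (i + 1) rfl)
  · exact P.prop_of_iso (HomologicalComplex.homotopyCofiber.XIsoBiprod u i (i + 1) rfl).symm
      (FiniteType.biprod_mem hsum (hPE _ (by omega)) (hPG i hi))

lemma good_of_qis (hFT : TopFT P) {n : ℤ} {X G : CochainComplex C ℤ}
    (hG : PCoh.IsStrictPC P n G) (s : X ⟶ G) [QuasiIso s] : Good P n X := by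
  intro m hm E u hE hu
  have hzero : ∀ i, m < i → IsZero ((CochainComplex.mappingCone (u ≫ s)).homology i) := fun i hi =>
    (isZero_homology_cone hu i (by omega)).of_iso (nonempty_homology_cone_iso u s i).some.symm
  have hft := hFT m _ (isStrictPC_mono
    (isStrictPC_cone hsum (u ≫ s) (isStrictPC_mono hE (by omega)) hG) hm) hzero
  exact FiniteType.finiteType_of_epi hft (nonempty_homology_cone_iso u s m).some.inv

variable (hql : PCoh.IsQuasiLiftable P)

include hql

theorem exists_descend {n : ℤ} {X : CochainComplex C ℤ} (hX : Good P n X) (k : ℕ) :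
    ∀ {E : CochainComplex C ℤ} (u : E ⟶ X), PCoh.IsStrictPC P n E → IsQisN u (n + k) →
      ∃ (E' : CochainComplex C ℤ) (v : E ⟶ E') (u' : E' ⟶ X), v ≫ u' = u ∧
        PCoh.IsStrictPC P n E' ∧ IsQisN u' n ∧ (∀ i, Mono (v.f i)) ∧
        (∀ i, n + k ≤ i → IsIso (v.f i)) ∧ (∀ i, i < n → IsIso (v.f i)) := by
  induction k with
  | zero =>
    intro E u hE hu
    exact ⟨E, 𝟙 E, u, Category.id_comp u, hE, by simpa using hu, fun i => by
      rw [HomologicalComplex.id_f]; infer_instance, fun i _ => by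
      rw [HomologicalComplex.id_f]; infer_instance, fun i _ => by
      rw [HomologicalComplex.id_f]; infer_instance⟩
  | succ k ih =>
    intro E u hE hu
    have hu' : IsQisN u (n + k + 1) := by
      have e : n + ((k + 1 : ℕ) : ℤ) = n + (k : ℤ) + 1 := by omega
      rwa [e] at hu
    obtain ⟨E₁, v₁, u₁, h₁, hmono₁, hiso₁, -, hP₁, hqis₁⟩ :=
      exists_step hsum hql hu' (hX (n + k) (by omega) E u hE hu')
    have hE₁ : PCoh.IsStrictPC P n E₁ := by
      obtain ⟨⟨b, hb⟩, hPE⟩ := hE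
      refine ⟨⟨max b (n + k), fun i hi => ?_⟩, fun i hi => ?_⟩
      · have := hiso₁ i (by omega)
        exact (hb i (by omega)).of_iso (asIso (v₁.f i)).symm
      · by_cases h : i = n + k
        · subst h; exact hP₁ (hPE _ hi)
        · have := hiso₁ i h
          exact P.prop_of_iso (asIso (v₁.f i)) (hPE i hi)
    obtain ⟨E', v, u', h, hE', hqis, hmono, hiso, hiso'⟩ := ih u₁ hE₁ hqis₁
    refine ⟨E', v₁ ≫ v, u', by rw [Category.assoc, h, h₁], hE', hqis, fun i => ?_, fun i hi => ?_,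
      fun i hi => ?_⟩
    all_goals rw [HomologicalComplex.comp_f]
    · have := hmono₁ i; have := hmono i; infer_instance
    · have := hiso₁ i (by omega); have := hiso i (by omega); infer_instance
    · have := hiso₁ i (by omega); have := hiso' i hi; infer_instance

theorem exists_strictPerfect [P.ContainsZero] {n : ℤ} {X : CochainComplex C ℤ} (hX : Good P n X)
    (b : ℤ) (hb : ∀ i, b < i → IsZero (X.homology i)) :
    ∃ (E : CochainComplex C ℤ) (u : E ⟶ X), IsQisN u n ∧ (∀ i, P (E.X i)) ∧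
      ∀ i, i < n ∨ max n (b + 1) ≤ i → IsZero (E.X i) := by
  obtain ⟨k, hk⟩ : ∃ k : ℕ, n + k = max n (b + 1) := ⟨(max n (b + 1) - n).toNat, by omega⟩
  obtain ⟨E, v, u, -, hE, hu, -, hiso, hiso'⟩ := exists_descend hsum hql hX k
    (0 : (0 : CochainComplex C ℤ) ⟶ X) (isStrictPC_of_all isStrictPCAll_zero n)
    (isQisN_zero fun i hi => hb i (by omega))
  have hz : ∀ i, i < n ∨ max n (b + 1) ≤ i → IsZero (E.X i) := fun i hi => by
    have : IsIso (v.f i) := hi.elim (hiso' i) (fun h => hiso i (by omega))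
    exact (isZero_zero_X i).of_iso (asIso (v.f i)).symm
  refine ⟨E, u, hu, fun i => ?_, hz⟩
  by_cases h : n ≤ i
  · exact hE.2 i h
  · exact P.prop_of_isZero (hz i (Or.inl (by omega)))

omit hsum hql in
theorem exists_tau_strictPC {n i : ℤ} {E X : CochainComplex C ℤ} {u : E ⟶ X} (hi : i ≤ n)
    (hE : PCoh.IsStrictPC P n E) (hu : IsQisN u i) :
    ∃ (E' : CochainComplex C ℤ) (v : E ⟶ E') (u' : E' ⟶ X), v ≫ u' = u ∧
      PCoh.IsStrictPC P n E' ∧ QuasiIso u' ∧ (∀ j, Mono (v.f j)) ∧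
      (∀ j, i ≤ j → IsIso (v.f j)) := by
  obtain ⟨E', v, u', h, hq, hmono, hiso⟩ := exists_tau hu
  obtain ⟨⟨b, hb⟩, hP⟩ := hE
  refine ⟨E', v, u', h, ⟨⟨max b i, fun j hj => ?_⟩, fun j hj => ?_⟩, hq, hmono, hiso⟩
  · have := hiso j (by omega)
    exact (hb j (by omega)).of_iso (asIso (v.f j)).symm
  · have := hiso j (by omega)
    exact P.prop_of_iso (asIso (v.f j)) (hP j hj)

/-- extension of an approximation to a quasi-isomorphism -/
theorem exists_factor {n i : ℤ} {E X : CochainComplex C ℤ} (hX : Good P n X) (u : E ⟶ X)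
    (hE : PCoh.IsStrictPC P n E) (hu : IsQisN u i) :
    ∃ (E' : CochainComplex C ℤ) (v : E ⟶ E') (u' : E' ⟶ X), v ≫ u' = u ∧
      PCoh.IsStrictPC P n E' ∧ QuasiIso u' ∧ (∀ j, Mono (v.f j)) ∧
      (∀ j, i ≤ j → IsIso (v.f j)) := by
  by_cases h : i ≤ n
  · exact exists_tau_strictPC h hE hu
  · obtain ⟨k, rfl⟩ : ∃ k : ℕ, i = n + k := ⟨(i - n).toNat, by omega⟩
    obtain ⟨E₁, v₁, u₁, h₁, hE₁, hu₁, hmono₁, hiso₁, -⟩ := exists_descend hsum hql hX k u hE hu
    obtain ⟨E', v, u', h', hE', hq, hmono, hiso⟩ := exists_tau_strictPC le_rfl hE₁ hu₁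
    refine ⟨E', v₁ ≫ v, u', by rw [Category.assoc, h', h₁], hE', hq, fun j => ?_, fun j hj => ?_⟩
    all_goals rw [HomologicalComplex.comp_f]
    · have := hmono₁ j; have := hmono j; infer_instance
    · have := hiso₁ j hj; have := hiso j (by omega); infer_instance

end Cone

section Derived

variable [HasDerivedCategory.{w} C]

variable (P) in
/-- `F` is isomorphic in the derived category to a strictly `n`-pseudo-coherent complex. -/
def PCn (n : ℤ) (F : DerivedCategory C) : Prop :=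
  ∃ E : CochainComplex C ℤ, PCoh.IsStrictPC P n E ∧ Nonempty (DerivedCategory.Q.obj E ≅ F)

lemma PCn.mono {n m : ℤ} {F : DerivedCategory C} (h : PCn P n F) (hnm : n ≤ m) : PCn P m F :=
  let ⟨E, hE, e⟩ := h
  ⟨E, isStrictPC_mono hE hnm, e⟩

lemma PCn.of_iso {n : ℤ} {F F' : DerivedCategory C} (h : PCn P n F) (e : F ≅ F') : PCn P n F' :=
  let ⟨E, hE, ⟨e'⟩⟩ := h
  ⟨E, hE, ⟨e' ≪≫ e⟩⟩

lemma PCn.of_qis {n : ℤ} {E X : CochainComplex C ℤ} (hE : PCoh.IsStrictPC P n E) (g : E ⟶ X)
    [QuasiIso g] : PCn P n (DerivedCategory.Q.obj X) :=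
  have : IsIso (DerivedCategory.Q.map g) := (DerivedCategory.isIso_Q_map_iff_quasiIso (C := C) g).2 ‹_›
  ⟨E, hE, ⟨asIso (DerivedCategory.Q.map g)⟩⟩

/-- homology in the derived category of the image of a complex -/
noncomputable def homologyIso (X : CochainComplex C ℤ) (i : ℤ) :
    (DerivedCategory.homologyFunctor C i).obj (DerivedCategory.Q.obj X) ≅ X.homology i :=
  (DerivedCategory.homologyFunctorFactors C i).app X

lemma PCn.boundedAbove {n : ℤ} {F : DerivedCategory C} (h : PCn P n F) :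
    ∃ b : ℤ, ∀ i, b < i → IsZero ((DerivedCategory.homologyFunctor C i).obj F) := by
  obtain ⟨E, ⟨⟨b, hb⟩, -⟩, ⟨e⟩⟩ := h
  exact ⟨b, fun i hi => (isZero_homology_of_isZero_X E i (hb i hi)).of_iso
    (((DerivedCategory.homologyFunctor C i).mapIso e.symm) ≪≫ homologyIso E i)⟩

variable [P.IsClosedUnderIsomorphisms] [P.ContainsZero]
  (hsum : ∀ X Y : C, P X → P Y → P (X ⨯ Y)) (hql : PCoh.IsQuasiLiftable P) (hFT : TopFT P)

include hsum hql hFT

/-- a complex with `n`-pseudo-coherent image receives a quasi-isomorphism from a strict one -/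
theorem exists_resolution {n : ℤ} {X : CochainComplex C ℤ}
    (h : PCn P n (DerivedCategory.Q.obj X)) :
    ∃ (G : CochainComplex C ℤ) (g : G ⟶ X), PCoh.IsStrictPC P n G ∧ QuasiIso g := by
  obtain ⟨E, hE, ⟨e⟩⟩ := h
  obtain ⟨Z, s, hs, f, hf⟩ := DerivedCategory.right_fac e.hom
  have hf' : IsIso (DerivedCategory.Q.map f) := by
    have : DerivedCategory.Q.map f = DerivedCategory.Q.map s ≫ e.hom := by simp [hf]
    rw [this]; infer_instance
  have : QuasiIso s := (DerivedCategory.isIso_Q_map_iff_quasiIso (C := C) s).1 hs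
  have : QuasiIso f := (DerivedCategory.isIso_Q_map_iff_quasiIso (C := C) f).1 hf'
  obtain ⟨b, hb⟩ := hE.1
  have hbZ : ∀ i, b < i → IsZero (Z.homology i) := fun i hi =>
    (isZero_homology_of_isZero_X E i (hb i hi)).of_iso
      (asIso (HomologicalComplex.homologyMap s i))
  obtain ⟨G, u, hu, hG, hz⟩ := exists_strictPerfect hsum hql (good_of_qis hsum hFT hE s) b hbZ
  obtain ⟨G', -, g, -, hG', hg, -, -⟩ := exists_tau_strictPC (P := P) (X := Z) le_rfl
    (⟨⟨max n (b + 1), fun i hi => hz i (Or.inr hi.le)⟩, fun i _ => hG i⟩ :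
      PCoh.IsStrictPC P n G) hu
  exact ⟨G', g ≫ f, hG', inferInstance⟩

open Pretriangulated in
/-- the cone of a map from an `(n+1)`- to an `n`-pseudo-coherent object -/
theorem PCn.obj₃ {n : ℤ} (T : Triangle (DerivedCategory C)) (hT : T ∈ distinguishedTriangles)
    (h₁ : PCn P (n + 1) T.obj₁) (h₂ : PCn P n T.obj₂) : PCn P n T.obj₃ := by
  obtain ⟨A, hA, ⟨a⟩⟩ := h₁
  obtain ⟨B, hB, ⟨b⟩⟩ := h₂
  obtain ⟨Z, s, hs, f, hf⟩ := DerivedCategory.right_fac (a.hom ≫ T.mor₁ ≫ b.inv)
  have : QuasiIso s := (DerivedCategory.isIso_Q_map_iff_quasiIso (C := C) s).1 hs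
  have hZ : PCn P (n + 1) (DerivedCategory.Q.obj Z) :=
    ⟨A, hA, ⟨(asIso (DerivedCategory.Q.map s)).symm⟩⟩
  obtain ⟨A', g, hA', hg⟩ := exists_resolution hsum hql hFT hZ
  have : IsIso (DerivedCategory.Q.map g) := (DerivedCategory.isIso_Q_map_iff_quasiIso (C := C) g).2 hg
  let e₁ : DerivedCategory.Q.obj A' ≅ T.obj₁ :=
    asIso (DerivedCategory.Q.map g) ≪≫ asIso (DerivedCategory.Q.map s) ≪≫ a
  refine ⟨_, isStrictPC_cone hsum (g ≫ f) hA' hB, ⟨Triangle.π₃.mapIso (isoTriangleOfIso₁₂ _ _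
    (DerivedCategory.mappingCone_triangle_distinguished (g ≫ f)) hT e₁ b ?_)⟩⟩
  have hf' : DerivedCategory.Q.map f ≫ b.hom = DerivedCategory.Q.map s ≫ a.hom ≫ T.mor₁ := by
    rw [← cancel_mono b.inv]
    simp [hf]
  change DerivedCategory.Q.map (g ≫ f) ≫ b.hom = e₁.hom ≫ T.mor₁
  simp [e₁, hf']

/-- the image of a strictly pseudo-coherent object gives the finite type condition -/
theorem good_of_pcn {n : ℤ} {X : CochainComplex C ℤ} (h : PCn P n (DerivedCategory.Q.obj X)) :
    Good P n X := by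
  intro m hm E u hE hu
  have hcone : PCn P m (DerivedCategory.Q.obj (CochainComplex.mappingCone u)) :=
    (PCn.obj₃ hsum hql hFT _ (DerivedCategory.mappingCone_triangle_distinguished u)
      ⟨E, isStrictPC_mono hE (by omega), ⟨Iso.refl _⟩⟩ h).mono hm
  obtain ⟨K, g, hK, hg⟩ := exists_resolution hsum hql hFT hcone
  have := hFT m K hK fun i hi =>
    (isZero_homology_cone hu i (by omega)).of_iso (asIso (HomologicalComplex.homologyMap g i))
  exact FiniteType.finiteType_of_epi this (HomologicalComplex.homologyMap g m)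

end Derived

end Groth.Agent.DHA.PCohCore
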