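/-
Approximation by strictly pseudo-coherent complexes in all degrees.
-/
import Groth.Agent.DHA.PCohCore
import Mathlib.CategoryTheory.Functor.OfSequence

universe v u

open CategoryTheory CategoryTheory.Limits

namespace Groth.Agent.DHA.PCohLimit

open PCohQis PCohCore

variable {C : Type u} [Category.{v} C] [Abelian C]

/-- an approximation of `X` in degrees `≥ n₀ - k` -/
structure St (P : ObjectProperty C) (X : CochainComplex C ℤ) (n₀ : ℤ) (k : ℕ) : Type (max u v) where
  /-- the complex -/
  E : CochainComplex C ℤ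
  /-- the approximation -/
  u : E ⟶ X
  all : PCoh.IsStrictPCAll P E
  qis : IsQisN u (n₀ - k)

variable {P : ObjectProperty C} {X : CochainComplex C ℤ} {n₀ : ℤ}

theorem exists_next [P.IsClosedUnderIsomorphisms] (hsum : ∀ A B : C, P A → P B → P (A ⨯ B))
    (hql : PCoh.IsQuasiLiftable P) (hX : ∀ m, Good P m X) {k : ℕ} (s : St P X n₀ k) :
    ∃ (t : St P X n₀ (k + 1)) (v : s.E ⟶ t.E), v ≫ t.u = s.u ∧ (∀ i, Mono (v.f i)) ∧
      ∀ i : ℤ, i ≠ n₀ - ((k : ℤ) + 1) → IsIso (v.f i) := by
  have hq : IsQisN s.u (n₀ - ((k : ℤ) + 1) + 1) := by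
    have e : n₀ - ((k : ℤ) + 1) + 1 = n₀ - k := by omega
    rw [e]; exact s.qis
  obtain ⟨E', v, u', h, hmono, hiso, -, hPm, hqis⟩ := exists_step hsum hql hq
    (hX _ _ le_rfl s.E s.u (isStrictPC_of_all s.all _) hq)
  have hall : PCoh.IsStrictPCAll P E' := by
    obtain ⟨⟨b, hb⟩, hP⟩ := s.all
    refine ⟨⟨max b n₀, fun i hi => ?_⟩, fun i => ?_⟩
    · have := hiso i (by omega)
      exact (hb i (by omega)).of_iso (asIso (v.f i)).symm
    · by_cases hi : i = n₀ - ((k : ℤ) + 1)
      · subst hi; exact hPm (hP _)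
      · have := hiso i hi
        exact P.prop_of_iso (asIso (v.f i)) (hP i)
  have hqis' : IsQisN u' (n₀ - ((k + 1 : ℕ) : ℤ)) := by
    have e : (((k + 1 : ℕ) : ℤ)) = (k : ℤ) + 1 := by omega
    rw [e]; exact hqis
  exact ⟨⟨E', u', hall, hqis'⟩, v, h, hmono, hiso⟩

variable [P.IsClosedUnderIsomorphisms] (hsum : ∀ A B : C, P A → P B → P (A ⨯ B))
  (hql : PCoh.IsQuasiLiftable P) (hX : ∀ m, Good P m X) (s₀ : St P X n₀ 0)

include hsum hql hX

theorem exists_all : ∃ (E' : CochainComplex C ℤ) (v : s₀.E ⟶ E') (u' : E' ⟶ X), v ≫ u' = s₀.u ∧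
    PCoh.IsStrictPCAll P E' ∧ QuasiIso u' ∧ (∀ i, Mono (v.f i)) ∧
    ∀ i, n₀ ≤ i → IsIso (v.f i) := by
  choose nx vx hvu hvmono hviso using
    fun k (s : St P X n₀ k) => exists_next hsum hql hX s
  let sq : ∀ k, St P X n₀ k := fun k => Nat.rec s₀ nx k
  let L : ℕ ⥤ CochainComplex C ℤ := Functor.ofSequence (fun k => vx k (sq k))
  have hL : ∀ a, L.map (homOfLE (Nat.le_succ a)) = vx a (sq a) := fun a =>
    Functor.ofSequence_map_homOfLE_succ (fun k => vx k (sq k)) a
  let U : ∀ k, L.obj k ⟶ X := fun k => (sq k).u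
  have hVU : ∀ k, L.map (homOfLE (Nat.le_succ k)) ≫ U (k + 1) = U k := fun k => by
    rw [hL]; exact hvu k (sq k)
  have hVmono : ∀ k i, Mono ((L.map (homOfLE (Nat.le_succ k))).f i) := fun k i => by
    rw [hL]; exact hvmono k (sq k) i
  have hViso : ∀ (k : ℕ) (i : ℤ), i ≠ n₀ - ((k : ℤ) + 1) →
      IsIso ((L.map (homOfLE (Nat.le_succ k))).f i) := fun k i hi => by
    rw [hL]; exact hviso k (sq k) i hi
  have hLu : ∀ (a K : ℕ) (h : a ≤ K), L.map (homOfLE h) ≫ U K = U a := by
    intro a K h
    induction K, h using Nat.le_induction with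
    | base => simp only [homOfLE_refl, L.map_id, Category.id_comp]
    | succ K h ih =>
      rw [← homOfLE_comp h (Nat.le_succ K), L.map_comp, Category.assoc, hVU K, ih]
  have hLmono : ∀ (a K : ℕ) (h : a ≤ K) (i : ℤ), Mono ((L.map (homOfLE h)).f i) := by
    intro a K h i
    induction K, h using Nat.le_induction with
    | base => simp only [homOfLE_refl, L.map_id, HomologicalComplex.id_f]; infer_instance
    | succ K h ih =>
      rw [← homOfLE_comp h (Nat.le_succ K), L.map_comp, HomologicalComplex.comp_f]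
      have := hVmono K i
      exact mono_comp _ _
  let ki : ℤ → ℕ := fun i => (n₀ - i).toNat
  have hLiso : ∀ (a K : ℕ) (h : a ≤ K) (i : ℤ), ki i ≤ a → IsIso ((L.map (homOfLE h)).f i) := by
    intro a K h i hi
    induction K, h using Nat.le_induction with
    | base => simp only [homOfLE_refl, L.map_id, HomologicalComplex.id_f]; infer_instance
    | succ K h ih =>
      rw [← homOfLE_comp h (Nat.le_succ K), L.map_comp, HomologicalComplex.comp_f]
      have := hViso K i (by simp only [ki] at hi; omega)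
      exact IsIso.comp_isIso
  have hk : ∀ i, ki (i + 1) ≤ ki i := fun i => by simp only [ki]; omega
  -- the comparison maps
  let inc : ∀ (i : ℤ) (K : ℕ), ki i ≤ K → ((L.obj (ki i)).X i ⟶ (L.obj K).X i) :=
    fun i K h => (L.map (homOfLE h)).f i
  have hinc : ∀ i K h, IsIso (inc i K h) := fun i K h => hLiso _ _ h i le_rfl
  have hinc_comp : ∀ (i : ℤ) (a K : ℕ) (ha : ki i ≤ a) (h : a ≤ K),
      inc i a ha ≫ (L.map (homOfLE h)).f i = inc i K (ha.trans h) := fun i a K ha h => by
    simp only [inc, ← HomologicalComplex.comp_f, ← L.map_comp, homOfLE_comp]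
  let dd : ∀ i, (L.obj (ki i)).X i ⟶ (L.obj (ki (i + 1))).X (i + 1) := fun i =>
    haveI := hinc (i + 1) (ki i) (hk i)
    (L.obj (ki i)).d i (i + 1) ≫ inv (inc (i + 1) (ki i) (hk i))
  have hdd : ∀ i K (h : ki i ≤ K), dd i ≫ inc (i + 1) K ((hk i).trans h) =
      inc i K h ≫ (L.obj K).d i (i + 1) := fun i K h => by
    have := hinc (i + 1) (ki i) (hk i)
    rw [← hinc_comp (i + 1) (ki i) K (hk i) h]
    simp [dd, inc]
  let E' : CochainComplex C ℤ := CochainComplex.of (fun i => (L.obj (ki i)).X i) dd (fun i => by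
    have := hinc (i + 1 + 1) (ki i) ((hk _).trans (hk i))
    rw [← cancel_mono (inc (i + 1 + 1) (ki i) ((hk _).trans (hk i))), Category.assoc,
      hdd (i + 1) (ki i) (hk i), ← Category.assoc, hdd i (ki i) le_rfl, zero_comp]
    simp)
  have hE'd : ∀ i, E'.d i (i + 1) = dd i := fun i => by simp [E']
  let v : s₀.E ⟶ E' :=
    { f := fun i => (L.map (homOfLE (Nat.zero_le (ki i)))).f i
      comm' := fun i j hij => by
        obtain rfl : i + 1 = j := hij
        have := hinc (i + 1) (ki i) (hk i)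
        rw [hE'd]
        change (L.map (homOfLE (Nat.zero_le (ki i)))).f i ≫ dd i =
          (L.obj 0).d i (i + 1) ≫ (L.map (homOfLE (Nat.zero_le (ki (i + 1))))).f (i + 1)
        rw [← cancel_mono (inc (i + 1) (ki i) (hk i)), Category.assoc, hdd i (ki i) le_rfl]
        simp only [inc, homOfLE_refl, L.map_id, HomologicalComplex.id_f, Category.id_comp,
          Category.assoc, ← HomologicalComplex.comp_f, ← L.map_comp, homOfLE_comp,
          (L.map (homOfLE (Nat.zero_le (ki i)))).comm] }
  have hu'inc : ∀ i K (h : ki i ≤ K), inc i K h ≫ (U K).f i = (U (ki i)).f i :=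
    fun i K h => by rw [← hLu _ K h]; rfl
  let u' : E' ⟶ X :=
    { f := fun i => (U (ki i)).f i
      comm' := fun i j hij => by
        obtain rfl : i + 1 = j := hij
        rw [hE'd]
        change (U (ki i)).f i ≫ X.d i (i + 1) = dd i ≫ (U (ki (i + 1))).f (i + 1)
        rw [← hu'inc (i + 1) (ki i) (hk i), ← Category.assoc, hdd i (ki i) le_rfl]
        simp only [inc, homOfLE_refl, L.map_id, HomologicalComplex.id_f, Category.id_comp]
        exact (U (ki i)).comm i (i + 1) }
  refine ⟨E', v, u', ?_, ⟨?_, fun i => (sq (ki i)).all.2 i⟩, ⟨fun i => ?_⟩, fun i => ?_,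
    fun i hi => ?_⟩
  · ext i
    change (L.map (homOfLE (Nat.zero_le (ki i)))).f i ≫ (U (ki i)).f i = (U 0).f i
    rw [← HomologicalComplex.comp_f, hLu]
  · obtain ⟨b, hb⟩ := s₀.all.1
    refine ⟨max b n₀, fun i hi => ?_⟩
    have := hLiso 0 (ki i) (Nat.zero_le _) i (by simp only [ki]; omega)
    exact (hb i (by omega)).of_iso (asIso ((L.map (homOfLE (Nat.zero_le (ki i)))).f i)).symm
  · rw [quasiIsoAt_iff_isIso_homologyMap]
    -- compare with a late stage
    let K := ki i + 2
    have hK0 : ki (i - 1) ≤ K := by simp only [ki, K]; omega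
    have hK1 : ki i ≤ K := by omega
    have hK2 : ki (i + 1) ≤ K := (hk i).trans hK1
    have hq : IsQisN (U K) (i - 1) := (sq K).qis.mono _ (by simp only [ki, K]; omega)
    have hd0 : E'.d (i - 1) i ≫ inc i K hK1 = inc (i - 1) K hK0 ≫ (L.obj K).d (i - 1) i := by
      obtain ⟨j, rfl⟩ : ∃ j, i = j + 1 := ⟨i - 1, by omega⟩
      have e : j + 1 - 1 = j := by omega
      revert hK0
      rw [e]
      intro hK0
      rw [hE'd]
      exact hdd j K hK0
    have hd1 : E'.d i (i + 1) ≫ inc (i + 1) K hK2 = inc i K hK1 ≫ (L.obj K).d i (i + 1) := by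
      rw [hE'd]
      exact hdd i K hK1
    have := hinc (i - 1) K hK0
    have := hinc i K hK1
    have := hinc (i + 1) K hK2
    have hiso := hq.1 i (by omega)
    have hm : Mono (HomologicalComplex.homologyMap (U K) i) := inferInstance
    have he : Epi (HomologicalComplex.homologyMap (U K) i) := inferInstance
    rw [HomologicalComplex.mono_homologyMap_iff_up_to_refinements _ (i - 1) i (i + 1)
      (by simp) (by simp)] at hm
    rw [HomologicalComplex.epi_homologyMap_iff_up_to_refinements _ (i - 1) i (i + 1)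
      (by simp) (by simp)] at he
    have : Mono (HomologicalComplex.homologyMap u' i) := by
      rw [HomologicalComplex.mono_homologyMap_iff_up_to_refinements _ (i - 1) i (i + 1)
        (by simp) (by simp)]
      intro A x hx y hy
      obtain ⟨A', π, hπ, x₁, hx₁⟩ := hm (x ≫ inc i K hK1)
        (by
          change (x ≫ inc i K hK1) ≫ (L.obj K).d i (i + 1) = 0
          rw [Category.assoc, ← hd1, ← Category.assoc, hx, zero_comp])
        y (by rw [Category.assoc, hu'inc]; exact hy)
      refine ⟨A', π, hπ, x₁ ≫ inv (inc (i - 1) K hK0), ?_⟩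
      rw [← cancel_mono (inc i K hK1), Category.assoc, Category.assoc, Category.assoc, hd0,
        IsIso.inv_hom_id_assoc]
      exact hx₁
    have : Epi (HomologicalComplex.homologyMap u' i) := by
      rw [HomologicalComplex.epi_homologyMap_iff_up_to_refinements _ (i - 1) i (i + 1)
        (by simp) (by simp)]
      intro A y hy
      obtain ⟨A', π, hπ, x, hx, y₁, hy₁⟩ := he y hy
      refine ⟨A', π, hπ, x ≫ inv (inc i K hK1), ?_, y₁, ?_⟩
      · rw [← cancel_mono (inc (i + 1) K hK2), Category.assoc, Category.assoc, hd1,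
          IsIso.inv_hom_id_assoc, zero_comp]
        exact hx
      · change π ≫ y = (x ≫ inv (inc i K hK1)) ≫ (U (ki i)).f i + _
        rw [← hu'inc i K hK1, Category.assoc, IsIso.inv_hom_id_assoc]
        exact hy₁
    exact isIso_of_mono_of_epi _
  · exact hLmono 0 (ki i) (Nat.zero_le _) i
  · exact hLiso 0 (ki i) (Nat.zero_le _) i (by simp only [ki]; omega)

end Groth.Agent.DHA.PCohLimit
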