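/-
Stability of `n`-pseudo-coherence under shifts, extensions and direct summands.
-/
import Groth.Agent.DHA.PCohCore

universe w v u

open CategoryTheory CategoryTheory.Limits CategoryTheory.Pretriangulated

namespace Groth.Agent.DHA.PCohStability

open PCohQis PCohFT PCohCore

variable {C : Type u} [Category.{v} C] [Abelian C] [HasDerivedCategory.{w} C]
  {P : ObjectProperty C}

lemma pcn_shift {n : ℤ} {F : DerivedCategory C} (h : PCn P n F) (m : ℤ) :
    PCn P (n - m) (F⟦m⟧) := by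
  obtain ⟨E, ⟨⟨b, hb⟩, hP⟩, ⟨e⟩⟩ := h
  exact ⟨E⟦m⟧, ⟨⟨b - m, fun i hi => hb (i + m) (by omega)⟩, fun i hi => hP (i + m) (by omega)⟩,
    ⟨(DerivedCategory.Q.commShiftIso m).app E ≪≫ (shiftFunctor _ m).mapIso e⟩⟩

lemma pcn_zero [P.IsClosedUnderIsomorphisms] [P.ContainsZero] (n : ℤ) {F : DerivedCategory C}
    (hF : IsZero F) : PCn P n F :=
  ⟨_, isStrictPC_of_all isStrictPCAll_zero n,
    ⟨((DerivedCategory.Q).map_isZero (isZero_zero _)).iso hF⟩⟩

variable [P.IsClosedUnderIsomorphisms] [P.ContainsZero]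
  (hsum : ∀ X Y : C, P X → P Y → P (X ⨯ Y)) (hql : PCoh.IsQuasiLiftable P) (hFT : TopFT P)

include hsum hql hFT

lemma pcn_obj₂ {n : ℤ} (T : Triangle (DerivedCategory C)) (hT : T ∈ distinguishedTriangles)
    (h₁ : PCn P n T.obj₁) (h₃ : PCn P n T.obj₃) : PCn P n T.obj₂ := by
  have h : PCn P (n + 1) (T.obj₃⟦(-1 : ℤ)⟧) := by
    simpa using pcn_shift h₃ (-1)
  exact PCn.obj₃ hsum hql hFT _ (inv_rot_of_distTriang _ hT) h h₁

lemma pcn_obj₁ {n : ℤ} (T : Triangle (DerivedCategory C)) (hT : T ∈ distinguishedTriangles)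
    (h₂ : PCn P (n + 1) T.obj₂) (h₃ : PCn P n T.obj₃) : PCn P (n + 1) T.obj₁ := by
  have h : PCn P (n + 1) (T.obj₃⟦(-1 : ℤ)⟧) := by
    simpa using pcn_shift h₃ (-1)
  exact pcn_obj₂ hsum hql hFT _ (inv_rot_of_distTriang _ hT) h h₂

lemma pcn_biprod {n : ℤ} {F F' : DerivedCategory C} [HasBinaryBiproduct F F']
    (h : PCn P n F) (h' : PCn P n F') : PCn P n (F ⊞ F') :=
  pcn_obj₂ hsum hql hFT _ (binaryBiproductTriangle_distinguished F F') h h'

/-- an object whose homology vanishes in degrees `≥ n` is `n`-pseudo-coherent -/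
lemma pcn_of_isZero_homology {n : ℤ} (F : DerivedCategory C)
    (h : ∀ i, n ≤ i → IsZero ((DerivedCategory.homologyFunctor C i).obj F)) : PCn P n F := by
  obtain ⟨X, ⟨e⟩⟩ : ∃ X, Nonempty (DerivedCategory.Q.obj X ≅ F) :=
    ⟨_, ⟨DerivedCategory.Q.objObjPreimageIso F⟩⟩
  have hz : ∀ i, n ≤ i → IsZero (X.homology i) := fun i hi =>
    (h i hi).of_iso ((homologyIso X i).symm ≪≫ (DerivedCategory.homologyFunctor C i).mapIso e)
  obtain ⟨E, v, u, -, hE, hu, -, -⟩ :=
    exists_tau_strictPC le_rfl (isStrictPC_of_all (P := P) isStrictPCAll_zero n) (isQisN_zero hz)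
  exact (PCn.of_qis hE u).of_iso e

/-- a direct summand of an `n`-pseudo-coherent object is `n`-pseudo-coherent -/
theorem pcn_of_biprod {n : ℤ} {F F' : DerivedCategory C} [HasBinaryBiproduct F F']
    (h : PCn P n (F ⊞ F')) : PCn P n F ∧ PCn P n F' := by
  obtain ⟨b, hb⟩ := h.boundedAbove
  have hF : ∀ i, b < i → IsZero ((DerivedCategory.homologyFunctor C i).obj F) := fun i hi =>
    IsZero.of_mono_eq_zero ((DerivedCategory.homologyFunctor C i).map
      (biprod.inl : F ⟶ F ⊞ F')) ((hb i hi).eq_of_tgt _ _)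
  have hF' : ∀ i, b < i → IsZero ((DerivedCategory.homologyFunctor C i).obj F') := fun i hi =>
    IsZero.of_mono_eq_zero ((DerivedCategory.homologyFunctor C i).map
      (biprod.inr : F' ⟶ F ⊞ F')) ((hb i hi).eq_of_tgt _ _)
  suffices ∀ k : ℕ, ∀ m : ℤ, n ≤ m → max n (b + 1) ≤ m + k → PCn P m F ∧ PCn P m F' by
    exact this (max n (b + 1) - n).toNat n le_rfl (by omega)
  intro k
  induction k with
  | zero =>
    intro m hm hk
    exact ⟨pcn_of_isZero_homology hsum hql hFT F fun i hi => hF i (by omega),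
      pcn_of_isZero_homology hsum hql hFT F' fun i hi => hF' i (by omega)⟩
  | succ k ih =>
    intro m hm hk
    obtain ⟨h₁, h₁'⟩ := ih (m + 1) (by omega) (by omega)
    have hs := h.mono hm
    have e : F' ⊞ F ≅ F ⊞ F' := biprod.braiding F' F
    exact ⟨PCn.obj₃ hsum hql hFT _ (binaryBiproductTriangle_distinguished F' F) h₁'
        (hs.of_iso e.symm),
      PCn.obj₃ hsum hql hFT _ (binaryBiproductTriangle_distinguished F F') h₁ hs⟩

end Groth.Agent.DHA.PCohStability
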