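/-
Consequences of the pseudo-coherence core used by the statement files.
-/
import Groth.Agent.DHA.PCohStability
import Groth.Agent.DHA.PCohLimit

universe w v u

open CategoryTheory CategoryTheory.Limits ZeroObject

namespace Groth.Agent.DHA.PCohAPI

open PCohQis PCohFT PCohCore PCohStability PCohLimit

variable {C : Type u} [Category.{v} C] [Abelian C] [HasDerivedCategory.{w} C]
  {P : ObjectProperty C}

lemma exists_model (F : DerivedCategory C) :
    ∃ X : CochainComplex C ℤ, Nonempty (DerivedCategory.Q.obj X ≅ F) :=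
  ⟨_, ⟨DerivedCategory.Q.objObjPreimageIso F⟩⟩

lemma isZero_homology_model {X : CochainComplex C ℤ} {F : DerivedCategory C}
    (e : DerivedCategory.Q.obj X ≅ F) {i : ℤ}
    (h : IsZero ((DerivedCategory.homologyFunctor C i).obj F)) : IsZero (X.homology i) :=
  h.of_iso ((homologyIso X i).symm ≪≫ (DerivedCategory.homologyFunctor C i).mapIso e)

lemma homologyFunctor_map_Q {X Y : CochainComplex C ℤ} (f : X ⟶ Y) (i : ℤ) :
    (DerivedCategory.homologyFunctor C i).map (DerivedCategory.Q.map f) =
      (homologyIso X i).hom ≫ HomologicalComplex.homologyMap f i ≫ (homologyIso Y i).inv := by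
  rw [← Category.assoc, Iso.eq_comp_inv]
  exact (DerivedCategory.homologyFunctorFactors C i).hom.naturality f

lemma isQisN_iff {X Y : CochainComplex C ℤ} (f : X ⟶ Y) (n : ℤ) :
    IsQisN f n ↔
      (∀ i, n < i → IsIso ((DerivedCategory.homologyFunctor C i).map (DerivedCategory.Q.map f))) ∧
      Epi ((DerivedCategory.homologyFunctor C n).map (DerivedCategory.Q.map f)) := by
  constructor
  · rintro ⟨h, h'⟩
    refine ⟨fun i hi => ?_, ?_⟩
    · have := h i hi
      rw [homologyFunctor_map_Q]; infer_instance
    · rw [homologyFunctor_map_Q]; infer_instance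
  · rintro ⟨h, h'⟩
    refine ⟨fun i hi => ?_, ?_⟩
    · have := h i hi
      have e : HomologicalComplex.homologyMap f i = (homologyIso X i).inv ≫
          (DerivedCategory.homologyFunctor C i).map (DerivedCategory.Q.map f) ≫
            (homologyIso Y i).hom := by simp [homologyFunctor_map_Q]
      rw [e]; infer_instance
    · have e : HomologicalComplex.homologyMap f n = (homologyIso X n).inv ≫
          (DerivedCategory.homologyFunctor C n).map (DerivedCategory.Q.map f) ≫
            (homologyIso Y n).hom := by simp [homologyFunctor_map_Q]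
      rw [e]; infer_instance

variable [P.IsClosedUnderIsomorphisms] [P.ContainsZero]
  (hsum : ∀ X Y : C, P X → P Y → P (X ⨯ Y)) (hql : PCoh.IsQuasiLiftable P)

include hsum hql

theorem pcn_of_nQis (hFT : TopFT P) {n : ℤ} {E : CochainComplex C ℤ} {F : DerivedCategory C}
    (hE : PCoh.IsStrictPC P n E) (α : DerivedCategory.Q.obj E ⟶ F)
    (hiso : ∀ i, n < i → IsIso ((DerivedCategory.homologyFunctor C i).map α))
    (hepi : Epi ((DerivedCategory.homologyFunctor C n).map α)) : PCn P n F := by
  obtain ⟨X, ⟨e⟩⟩ := exists_model F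
  obtain ⟨Z, s, hs, f, hf⟩ := DerivedCategory.right_fac (α ≫ e.inv)
  obtain ⟨G, g, hG, hg⟩ := exists_resolution hsum hql hFT (n := n)
    (⟨E, hE, ⟨(asIso (DerivedCategory.Q.map s)).symm⟩⟩ : PCn P n (DerivedCategory.Q.obj Z))
  have : IsIso (DerivedCategory.Q.map g) :=
    (DerivedCategory.isIso_Q_map_iff_quasiIso (C := C) g).2 hg
  have hw : DerivedCategory.Q.map (g ≫ f) =
      DerivedCategory.Q.map g ≫ DerivedCategory.Q.map s ≫ α ≫ e.inv := by
    simp [hf]
  have hq : IsQisN (g ≫ f) n := by
    rw [isQisN_iff, hw]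
    refine ⟨fun i hi => ?_, ?_⟩
    · have := hiso i hi
      simp only [Functor.map_comp]
      infer_instance
    · simp only [Functor.map_comp]
      infer_instance
  obtain ⟨G', -, g', -, hG', hg', -, -⟩ := exists_tau_strictPC le_rfl hG hq
  exact (PCn.of_qis hG' g').of_iso e

theorem exists_all_resolution (hFT : TopFT P) {X : CochainComplex C ℤ}
    (hX : ∀ m, PCn P m (DerivedCategory.Q.obj X)) (b : ℤ)
    (hb : ∀ i, b ≤ i → IsZero (X.homology i)) :
    ∃ (G : CochainComplex C ℤ) (g : G ⟶ X), PCoh.IsStrictPCAll P G ∧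
      (∀ i, b ≤ i → IsZero (G.X i)) ∧ QuasiIso g := by
  obtain ⟨G, v, g, -, hG, hg, -, hiso⟩ := exists_all hsum hql
    (fun m => good_of_pcn hsum hql hFT (hX m))
    (⟨0, (0 : (0 : CochainComplex C ℤ) ⟶ X), isStrictPCAll_zero,
      by simpa using isQisN_zero hb⟩ : St P X b 0)
  refine ⟨G, g, hG, fun i hi => ?_, hg⟩
  have := hiso i hi
  exact (isZero_zero_X i).of_iso (asIso (v.f i)).symm

theorem pcn_iff_finiteType (hFT : TopFT P) {n : ℤ} (F : DerivedCategory C)
    (hac : ∀ i : ℤ, n < i → IsZero ((DerivedCategory.homologyFunctor C i).obj F)) :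
    PCn P n F ↔ PCoh.IsOfFiniteType P ((DerivedCategory.homologyFunctor C n).obj F) := by
  obtain ⟨X, ⟨e⟩⟩ := exists_model F
  let iso := (DerivedCategory.homologyFunctor C n).mapIso e.symm ≪≫ homologyIso X n
  constructor
  · intro h
    obtain ⟨G, g, hG, hg⟩ := exists_resolution hsum hql hFT (h.of_iso e.symm)
    have := hFT n G hG fun i hi => (isZero_homology_model e (hac i hi)).of_iso
      (asIso (HomologicalComplex.homologyMap g i))
    exact FiniteType.finiteType_of_epi this (HomologicalComplex.homologyMap g n ≫ iso.inv)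
  · intro h
    let u : (0 : CochainComplex C ℤ) ⟶ X := 0
    have hq : IsQisN u (n + 1) := isQisN_zero fun i hi => isZero_homology_model e (hac i (by omega))
    have : ∀ i, IsIso ((CochainComplex.mappingCone.inr u).f i) := fun i => by
      refine ⟨(CochainComplex.mappingCone.snd u).v i i (add_zero i), by simp, ?_⟩
      apply CochainComplex.mappingCone.ext_from u (i + 1) i rfl
      · exact (isZero_zero_X (i + 1)).eq_of_src _ _
      · simp
    have : IsIso (CochainComplex.mappingCone.inr u) := HomologicalComplex.Hom.isIso_of_components _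
    obtain ⟨E, v, u', -, -, hiso, -, hPn, hu'⟩ := exists_step hsum hql hq
      (FiniteType.finiteType_of_epi h
        (iso.hom ≫ HomologicalComplex.homologyMap (CochainComplex.mappingCone.inr u) n))
    have hE : PCoh.IsStrictPC P n E := by
      refine ⟨⟨n, fun i hi => ?_⟩, fun i hi => ?_⟩
      · have := hiso i (by omega)
        exact (isZero_zero_X i).of_iso (asIso (v.f i)).symm
      · by_cases h' : i = n
        · subst h'; exact hPn (P.prop_of_isZero (isZero_zero_X _))
        · have := hiso i h'
          exact P.prop_of_isZero ((isZero_zero_X i).of_iso (asIso (v.f i)).symm)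
    obtain ⟨G, -, g, -, hG, hg, -, -⟩ := exists_tau_strictPC le_rfl hE hu'
    exact (PCn.of_qis hG g).of_iso e

end Groth.Agent.DHA.PCohAPI
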