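/-
Functorial K-injective resolutions with injective terms in Grothendieck abelian categories.
-/
import Groth.Agent.DHA.KInj.Generation
import Mathlib.Algebra.Homology.HomotopyCategory.MappingCone

universe v u

open CategoryTheory CategoryTheory.Limits ZeroObject

namespace Groth.Agent.DHA.KInj

variable {A : Type u} [Category.{v} A] [Abelian A]

lemma double_id_acyclic (X : A) {a b : ℤ} (hab : (ComplexShape.up ℤ).Rel a b) :
    (HomologicalComplex.double (𝟙 X) hab).Acyclic := by
  have hab' : a + 1 = b := hab
  intro k
  by_cases h₀ : k = a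
  · subst h₀
    rw [HomologicalComplex.exactAt_iff' _ (k - 1) k b (by simp) (by simp [← hab']),
      ShortComplex.exact_iff_mono _ (HomologicalComplex.double_d_eq_zero₀ (𝟙 X) hab _ _ (by omega))]
    show Mono ((HomologicalComplex.double (𝟙 X) hab).d k b)
    rw [HomologicalComplex.double_d _ _ (by omega)]
    infer_instance
  by_cases h₁ : k = b
  · subst h₁
    rw [HomologicalComplex.exactAt_iff' _ a k (k + 1) (by simp; omega) (by simp),
      ShortComplex.exact_iff_epi _ (HomologicalComplex.double_d_eq_zero₁ (𝟙 X) hab _ _ (by omega))]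
    show Epi ((HomologicalComplex.double (𝟙 X) hab).d a k)
    rw [HomologicalComplex.double_d _ _ (by omega)]
    infer_instance
  rw [HomologicalComplex.exactAt_iff]
  exact ShortComplex.exact_of_isZero_X₂ _ (HomologicalComplex.isZero_double_X (𝟙 X) hab k h₀ h₁)

lemma quasiIso_of_acyclic_both {K L : CochainComplex A ℤ} (f : K ⟶ L) (hK : K.Acyclic)
    (hL : L.Acyclic) : QuasiIso f := by
  rw [quasiIso_iff]
  intro n
  rw [quasiIsoAt_iff_isIso_homologyMap]
  exact ⟨0, (hK n).isZero_homology.eq_of_src _ _, (hL n).isZero_homology.eq_of_src _ _⟩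

/-- injective terms -/
lemma injective_X_of_rlp {Z : CochainComplex A ℤ} (hZ : (monoQis A).rlp (0 : Z ⟶ 0)) (n : ℤ) :
    Injective (Z.X n) where
  factors {X Y} φ a _ := by
    have hn : (ComplexShape.up ℤ).Rel n (n + 1) := rfl
    have h : n ≠ n + 1 := by omega
    let DX := HomologicalComplex.double (𝟙 X) hn
    let DY := HomologicalComplex.double (𝟙 Y) hn
    let i : DX ⟶ DY := HomologicalComplex.mkHomFromDouble hn h
      (a ≫ (HomologicalComplex.doubleXIso₀ _ hn).inv)
      (a ≫ (HomologicalComplex.doubleXIso₁ _ hn h).inv)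
      (by simp [DY, HomologicalComplex.double_d _ _ h])
      (fun k _ => by
        rw [HomologicalComplex.double_d_eq_zero₀ _ _ _ _ h.symm, comp_zero])
    let t : DX ⟶ Z := HomologicalComplex.mkHomFromDouble hn h φ (φ ≫ Z.d n (n + 1)) (by simp)
      (by simp)
    have hi : monoQis A i := by
      refine ⟨HomologicalComplex.mono_of_mono_f _ fun k => ?_,
        quasiIso_of_acyclic_both i (double_id_acyclic X hn) (double_id_acyclic Y hn)⟩
      by_cases h₀ : k = n
      · subst h₀
        rw [show i.f k = _ from HomologicalComplex.mkHomFromDouble_f₀ ..]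
        infer_instance
      by_cases h₁ : k = n + 1
      · subst h₁
        rw [show i.f (n + 1) = _ from HomologicalComplex.mkHomFromDouble_f₁ ..]
        infer_instance
      exact ⟨fun _ _ _ => (HomologicalComplex.isZero_double_X (𝟙 X) hn k h₀ h₁).eq_of_tgt _ _⟩
    have := hZ _ hi
    have sq : CommSq t i (0 : Z ⟶ 0) 0 := ⟨by simp⟩
    refine ⟨(HomologicalComplex.doubleXIso₀ _ hn).inv ≫ sq.lift.f n, ?_⟩
    have h' := HomologicalComplex.congr_hom sq.fac_left n
    simp only [HomologicalComplex.comp_f, i, t, HomologicalComplex.mkHomFromDouble_f₀,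
      Category.assoc, cancel_epi] at h'
    exact h'

/-- K-injectivity -/
lemma isKInjective_of_rlp {Z : CochainComplex A ℤ} (hZ : (monoQis A).rlp (0 : Z ⟶ 0)) :
    Z.IsKInjective where
  nonempty_homotopy_zero {K} f hK := by
    let i := CochainComplex.mappingCone.inr (𝟙 K)
    have hcone : (CochainComplex.mappingCone (𝟙 K)).Acyclic := fun n => by
      rw [HomologicalComplex.exactAt_iff_isZero_homology, IsZero.iff_id_eq_zero,
        ← HomologicalComplex.homologyMap_id,
        (CochainComplex.mappingCone.homotopyToZeroOfId K).homologyMap_eq,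
        HomologicalComplex.homologyMap_zero]
    have hi : monoQis A i :=
      ⟨HomologicalComplex.mono_of_mono_f _ fun k =>
          mono_of_mono_fac (CochainComplex.mappingCone.inr_f_snd_v (𝟙 K) k),
        quasiIso_of_acyclic_both i hK hcone⟩
    have := hZ _ hi
    have sq : CommSq f i (0 : Z ⟶ 0) 0 := ⟨by simp⟩
    exact ⟨(Homotopy.ofEq (sq.fac_left.symm.trans (by rw [Category.comp_id]))).trans
      (((CochainComplex.mappingCone.homotopyToZeroOfId K).compLeft i).compRight sq.lift |>.trans
        (Homotopy.ofEq (by simp)))⟩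

variable (A) in
/-- `M ↦ (M ⟶ 0)` -/
noncomputable def toZeroArrow : CochainComplex A ℤ ⥤ Arrow (CochainComplex A ℤ) where
  obj M := Arrow.mk (0 : M ⟶ 0)
  map φ := Arrow.homMk φ (𝟙 0) (by simp)

variable [IsGrothendieckAbelian.{v} A]

variable (A) in
/-- the functorial K-injective resolution -/
noncomputable def resolution : CochainComplex A ℤ ⥤ CochainComplex A ℤ :=
  toZeroArrow A ⋙ (MorphismProperty.functorialFactorizationData (monoQis A) (monoQis A).rlp).Z

variable (A) in
/-- the resolution map -/
noncomputable def resolutionι : 𝟭 (CochainComplex A ℤ) ⟶ resolution A where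
  app M := (MorphismProperty.functorialFactorizationData (monoQis A) (monoQis A).rlp).i.app
    (Arrow.mk (0 : M ⟶ 0))
  naturality M M' φ :=
    (MorphismProperty.functorialFactorizationData (monoQis A) (monoQis A).rlp).i.naturality
      ((toZeroArrow A).map φ)

lemma resolution_rlp (M : CochainComplex A ℤ) :
    (monoQis A).rlp (0 : (resolution A).obj M ⟶ 0) := by
  have h := (MorphismProperty.functorialFactorizationData (monoQis A) (monoQis A).rlp).hp
    (Arrow.mk (0 : M ⟶ 0))
  rwa [(isZero_zero (CochainComplex A ℤ)).eq_of_tgt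
    ((MorphismProperty.functorialFactorizationData (monoQis A) (monoQis A).rlp).p.app
      (Arrow.mk (0 : M ⟶ 0))) 0] at h

instance (M : CochainComplex A ℤ) : ((resolution A).obj M).IsKInjective :=
  isKInjective_of_rlp (resolution_rlp M)

instance (M : CochainComplex A ℤ) (n : ℤ) : Injective (((resolution A).obj M).X n) :=
  injective_X_of_rlp (resolution_rlp M) n

lemma resolutionι_monoQis (M : CochainComplex A ℤ) : monoQis A ((resolutionι A).app M) :=
  (MorphismProperty.functorialFactorizationData (monoQis A) (monoQis A).rlp).hi _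

instance (M : CochainComplex A ℤ) : QuasiIso ((resolutionι A).app M) :=
  (resolutionι_monoQis M).2

instance (M : CochainComplex A ℤ) : Mono ((resolutionι A).app M) :=
  (resolutionι_monoQis M).1

instance (M : CochainComplex A ℤ) (n : ℤ) : Mono (((resolutionι A).app M).f n) :=
  inferInstanceAs (Mono ((HomologicalComplex.eval A _ n).map ((resolutionι A).app M)))

variable (A) in
/-- Every complex has a K-injective resolution with injective terms. -/
theorem exists_resolution (M : CochainComplex A ℤ) :
    ∃ (I : CochainComplex A ℤ) (f : M ⟶ I), I.IsKInjective ∧ QuasiIso f ∧ (∀ n, Mono (f.f n)) ∧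
      ∀ n, Injective (I.X n) :=
  ⟨_, (resolutionι A).app M, inferInstance, inferInstance, fun _ => inferInstance,
    fun _ => inferInstance⟩

end Groth.Agent.DHA.KInj
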