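/-
The telescope short exact sequence for sequential colimits in AB5-like abelian categories.
-/
import Mathlib.CategoryTheory.Abelian.GrothendieckAxioms.Basic
import Mathlib.CategoryTheory.Functor.OfSequence
import Mathlib.Algebra.Homology.ShortComplex.ShortExact
import Mathlib.CategoryTheory.Limits.Shapes.Products
import Mathlib.CategoryTheory.Limits.Connected

universe v u

open CategoryTheory CategoryTheory.Limits

namespace Groth.Agent.DHA.Telescope

variable {A : Type u} [Category.{v} A] [Abelian A] [HasColimitsOfShape ℕ A]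
  [HasExactColimitsOfShape ℕ A]

set_option linter.unusedSectionVars false

variable {X : ℕ → A} (f : ∀ n, X n ⟶ X (n + 1)) {c : Cofan X} (hc : IsColimit c)
  (φ : c.pt ⟶ c.pt) (hφ : ∀ n, c.inj n ≫ φ = c.inj n - f n ≫ c.inj (n + 1))

include hc in
/-- a map killed by all truncation endomorphisms is zero -/
theorem eq_zero_of_comp_e (e : ℕ → (c.pt ⟶ c.pt))
    (he : ∀ N n, c.inj n ≫ e N = if n ≤ N then c.inj n else 0)
    {K : A} (k : K ⟶ c.pt) [hk' : Mono k] (hk : ∀ N, k ≫ e N = 0) : k = 0 := by
  let T : ℕ ⥤ A := Functor.ofSequence (X := fun _ => c.pt) (fun n => 𝟙 c.pt - e n)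
  let τ : (Functor.const ℕ).obj K ⟶ T := NatTrans.ofSequence (fun _ => k) (fun n => by
    have h0 : k ≫ (𝟙 c.pt - e n) = k := by
      rw [Preadditive.comp_sub, hk, Category.comp_id, sub_zero]
    exact (Category.id_comp _).trans (h0.symm.trans
      (congrArg (k ≫ ·) (Functor.ofSequence_map_homOfLE_succ (X := fun _ => c.pt) (fun n => 𝟙 c.pt - e n) n).symm)))
  let ιT : ℕ → (c.pt ⟶ colimit T) := fun N => colimit.ι T N
  have hT : ∀ N, colimit.ι T N = 0 := by
    intro N
    show ιT N = 0
    refine Cofan.IsColimit.hom_ext hc _ _ fun n => ?_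
    have step : ∀ N, c.inj n ≫ ιT N = (c.inj n ≫ (𝟙 c.pt - e N)) ≫ ιT (N + 1) := fun N => by
      have hw : (𝟙 c.pt - e N) ≫ ιT (N + 1) = ιT N := by
        have := colimit.w T (homOfLE (Nat.le_add_right N 1))
        rw [Functor.ofSequence_map_homOfLE_succ] at this
        exact this
      rw [Category.assoc, hw]
    have hbig : ∀ N, n ≤ N → c.inj n ≫ ιT N = 0 := fun N hN => by
      rw [step, Preadditive.comp_sub, he, if_pos hN, Category.comp_id, sub_self, zero_comp]
    have : ∀ d N, n ≤ N + d → c.inj n ≫ ιT N = 0 := by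
      intro d
      induction d with
      | zero => exact hbig
      | succ d ih =>
        intro N hN
        by_cases h : n ≤ N
        · exact hbig N h
        · rw [step, Preadditive.comp_sub, he, if_neg h, Category.comp_id, sub_zero,
            ih (N + 1) (by omega)]
    exact (this n N (by omega)).trans comp_zero.symm
  have : ∀ n, Mono (τ.app n) := fun n => hk'
  have : Mono τ := NatTrans.mono_of_mono_app τ
  have hι : colimit.ι ((Functor.const ℕ).obj K) 0 = 0 := by
    rw [← cancel_mono (colim.map τ), zero_comp]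
    erw [ι_colimMap, hT, comp_zero]
  have hid : 𝟙 K = 0 := by
    have := colimit.ι_desc (F := (Functor.const ℕ).obj K)
      { pt := K, ι := 𝟙 _ } 0
    rw [hι, zero_comp] at this
    exact this.symm
  rw [← Category.id_comp k, hid, zero_comp]

include hc hφ in
/-- `1 - shift` is a monomorphism. -/
theorem mono_oneSub : Mono φ := by
  classical
  -- the projection onto the first summands
  let e : ℕ → (c.pt ⟶ c.pt) := fun N =>
    Cofan.IsColimit.desc hc fun n => if n ≤ N then c.inj n else 0
  have he : ∀ N n, c.inj n ≫ e N = if n ≤ N then c.inj n else 0 := fun N n =>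
    Cofan.IsColimit.fac hc _ n
  -- partial inverses
  have hR : ∀ N, ∃ R, φ ≫ R = e N := by
    intro N
    have : ∀ d n, n + d = N + 1 → ∃ r : ∀ m, X m ⟶ c.pt, (∀ m, N < m → r m = 0) ∧
        ∀ m, n ≤ m → m ≤ N → r m = c.inj m + f m ≫ r (m + 1) := by
      intro d
      induction d with
      | zero =>
        intro n hn
        exact ⟨fun _ => 0, fun _ _ => rfl, fun m h₁ h₂ => absurd h₁ (by omega)⟩
      | succ d ih =>
        intro n hn
        obtain ⟨r, hr₀, hr⟩ := ih (n + 1) (by omega)
        refine ⟨Function.update r n (c.inj n + f n ≫ r (n + 1)), fun m hm => ?_, fun m h₁ h₂ => ?_⟩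
        · rw [Function.update_of_ne (by omega)]; exact hr₀ m hm
        · rw [Function.update_of_ne (show m + 1 ≠ n by omega)]
          rcases eq_or_lt_of_le h₁ with rfl | h₁
          · rw [Function.update_self]
          · rw [Function.update_of_ne (by omega)]; exact hr m (by omega) h₂
    obtain ⟨r, hr₀, hr⟩ := this (N + 1) 0 (by omega)
    refine ⟨Cofan.IsColimit.desc hc r, Cofan.IsColimit.hom_ext hc _ _ fun n => ?_⟩
    rw [reassoc_of% hφ n, Preadditive.sub_comp, Category.assoc, Cofan.IsColimit.fac,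
      Cofan.IsColimit.fac, he]
    split_ifs with h
    · rw [hr n (Nat.zero_le n) h]; abel
    · rw [hr₀ n (by omega), hr₀ (n + 1) (by omega), comp_zero, sub_zero]
  refine Preadditive.mono_of_kernel_zero ?_
  exact eq_zero_of_comp_e hc e he (kernel.ι φ) fun N => by
    obtain ⟨R, hR⟩ := hR N
    rw [← hR, kernel.condition_assoc, zero_comp]

include hφ in
lemma comp_eq_zero {L : A} (g : ∀ n, X n ⟶ L) (hg : ∀ n, f n ≫ g (n + 1) = g n) :
    φ ≫ Cofan.IsColimit.desc hc g = 0 :=
  Cofan.IsColimit.hom_ext hc _ _ fun n => by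
    rw [reassoc_of% hφ n, Preadditive.sub_comp, Category.assoc, Cofan.IsColimit.fac,
      Cofan.IsColimit.fac, hg, sub_self, comp_zero]

include hc in
/-- generalized elements of a countable coproduct are detected by the projections -/
theorem eq_zero_of_proj {W : A} (x : W ⟶ c.pt)
    (hx : ∀ n, x ≫ Cofan.IsColimit.desc hc (Pi.single n (𝟙 (X n))) = 0) : x = 0 := by
  classical
  let e : ℕ → (c.pt ⟶ c.pt) := fun N =>
    Cofan.IsColimit.desc hc fun n => if n ≤ N then c.inj n else 0
  let pr := fun n => Cofan.IsColimit.desc hc (Pi.single n (𝟙 (X n))) ≫ c.inj n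
  have hpr : ∀ n m, c.inj m ≫ pr n = if m = n then c.inj m else 0 := fun n m => by
    rw [Cofan.IsColimit.fac_assoc]
    split_ifs with h
    · subst h; rw [Pi.single_eq_same, Category.id_comp]
    · rw [Pi.single_eq_of_ne h, zero_comp]
  have he : ∀ N, e N = ∑ n ∈ Finset.range (N + 1), pr n := fun N =>
    Cofan.IsColimit.hom_ext hc _ _ fun m => by
      rw [Cofan.IsColimit.fac, Preadditive.comp_sum]
      simp only [hpr, Finset.sum_ite_eq, Finset.mem_range]
      exact if_congr (by omega) rfl rfl
  have h : Abelian.image.ι x = 0 := by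
    refine eq_zero_of_comp_e hc e (fun N n => Cofan.IsColimit.fac hc _ n) (Abelian.image.ι x)
      fun N => ?_
    rw [← cancel_epi (Abelian.factorThruImage x), comp_zero, ← Category.assoc,
      Abelian.image.fac, he,
      Preadditive.comp_sum]
    exact Finset.sum_eq_zero fun n _ => by rw [reassoc_of% hx n, zero_comp]
  rw [← Abelian.image.fac x, h, comp_zero]

/-- the telescope sequence -/
theorem shortExact (F : ℕ ⥤ A) {c : Cofan F.obj} (hc : IsColimit c) {s : Cocone F}
    (hs : IsColimit s) (φ : c.pt ⟶ c.pt)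
    (hφ : ∀ n, c.inj n ≫ φ = c.inj n - F.map (homOfLE (Nat.le_add_right n 1)) ≫ c.inj (n + 1))
    (q : c.pt ⟶ s.pt) (hq : ∀ n, c.inj n ≫ q = s.ι.app n) (w : φ ≫ q = 0) :
    (ShortComplex.mk φ q w).ShortExact := by
  have hcoc : ∀ {W : A} (k : c.pt ⟶ W), φ ≫ k = 0 → ∀ n,
      F.map (homOfLE (Nat.le_add_right n 1)) ≫ c.inj (n + 1) ≫ k = c.inj n ≫ k := fun k hk n => by
    have := c.inj n ≫= hk
    rw [reassoc_of% hφ n, comp_zero, Preadditive.sub_comp, Category.assoc, sub_eq_zero] at this
    exact this.symm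
  have : Mono φ := mono_oneSub (fun n => F.map (homOfLE (Nat.le_add_right n 1))) hc φ hφ
  have : Epi q := ⟨fun a b h => hs.hom_ext fun n => by rw [← hq, Category.assoc, Category.assoc, h]⟩
  refine { exact := ?_ }
  refine ShortComplex.exact_of_g_is_cokernel _
    (CokernelCofork.IsColimit.ofπ _ _
      (fun k hk => hs.desc (Cocone.mk _ (NatTrans.ofSequence (G := (Functor.const ℕ).obj _)
        (fun n => c.inj n ≫ k) (fun n => ?_))))
      (fun k hk => Cofan.IsColimit.hom_ext hc _ _ fun n => ?_)
      (fun k hk m hm => hs.hom_ext fun n => ?_))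
  · exact (hcoc k hk n).trans (Category.comp_id _).symm
  · show c.inj n ≫ q ≫ _ = _
    rw [reassoc_of% hq n, hs.fac]
    rfl
  · rw [hs.fac]
    show s.ι.app n ≫ m = c.inj n ≫ k
    rw [← hq, Category.assoc]
    exact congrArg (c.inj n ≫ ·) hm

end Groth.Agent.DHA.Telescope
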