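/-
Morphisms from `≤ m` to `≥ m` in the derived category are detected on `H^m`.
-/
import Mathlib.Algebra.Homology.DerivedCategory.TStructure
import Mathlib.Algebra.Homology.DerivedCategory.HomologySequence

universe w v u

open CategoryTheory CategoryTheory.Limits Pretriangulated

namespace Groth.Agent.DHA.TruncHom

variable {C : Type u} [Category.{v} C] [Abelian C] [HasDerivedCategory.{w} C]

lemma homologyMap_eq_zero_iff {K L : CochainComplex C ℤ} (g : K ⟶ L) (m : ℤ) :
    HomologicalComplex.homologyMap g m = 0 ↔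
      (DerivedCategory.homologyFunctor C m).map (DerivedCategory.Q.map g) = 0 := by
  constructor
  · intro hg
    have h := NatIso.naturality_2 (DerivedCategory.homologyFunctorFactors C m) g
    refine h.symm.trans ?_
    show _ ≫ HomologicalComplex.homologyMap g m ≫ _ = 0
    rw [hg]
    exact (congrArg _ zero_comp).trans comp_zero
  · intro hg
    have h := NatIso.naturality_1 (DerivedCategory.homologyFunctorFactors C m) g
    refine h.symm.trans ?_
    show _ ≫ (DerivedCategory.homologyFunctor C m).map (DerivedCategory.Q.map g) ≫ _ = 0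
    rw [hg]
    exact (congrArg _ zero_comp).trans comp_zero

/-- A morphism from a complex `≤ m` to a complex `≥ m` vanishing on `H^m` is zero. -/
theorem eq_zero {K L : CochainComplex C ℤ} (m : ℤ) [K.IsStrictlyLE m] [L.IsStrictlyGE m]
    (f : DerivedCategory.Q.obj K ⟶ DerivedCategory.Q.obj L)
    (hf : (DerivedCategory.homologyFunctor C m).map f = 0) : f = 0 := by
  obtain ⟨K', hK', s, hs, g, rfl⟩ := DerivedCategory.right_fac_of_isStrictlyLE f m
  rw [Functor.map_comp, Preadditive.IsIso.comp_left_eq_zero, ← homologyMap_eq_zero_iff] at hf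
  suffices g = 0 by rw [this, Functor.map_zero, comp_zero]
  have : IsIso (K'.iCycles m) := K'.isIso_iCycles m (m + 1) (by simp)
    ((K'.isZero_of_isStrictlyLE m (m + 1) (by omega)).eq_of_tgt _ _)
  have : IsIso (L.homologyπ m) := L.isIso_homologyπ (m - 1) m (by simp)
    ((L.isZero_of_isStrictlyGE m (m - 1) (by omega)).eq_of_src _ _)
  have h0 : HomologicalComplex.cyclesMap g m = 0 := by
    rw [← cancel_mono (L.homologyπ m), zero_comp, ← HomologicalComplex.homologyπ_naturality, hf,
      comp_zero]
  ext i
  rcases lt_trichotomy i m with h | rfl | h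
  · exact (L.isZero_of_isStrictlyGE m i h).eq_of_tgt _ _
  · rw [HomologicalComplex.zero_f, ← cancel_epi (K'.iCycles i),
      ← HomologicalComplex.cyclesMap_i, h0, zero_comp, comp_zero]
  · exact (K'.isZero_of_isStrictlyLE m i h).eq_of_src _ _

/-- the truncation triangle -/
theorem exists_truncTriangle (K : CochainComplex C ℤ) (n₀ n₁ : ℤ) (h : n₀ + 1 = n₁) :
    ∃ δ, Triangle.mk (DerivedCategory.Q.map (K.ιTruncLE n₀))
      (DerivedCategory.Q.map (K.πTruncGE n₁)) δ ∈ distTriang (DerivedCategory C) := by
  have hS := K.shortComplexTruncLE_shortExact n₀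
  have hI : IsIso (DerivedCategory.Q.map (K.shortComplexTruncLEX₃ToTruncGE n₀ n₁ h)) :=
    (DerivedCategory.isIso_Q_map_iff_quasiIso (C := C) _).2 inferInstance
  refine ⟨inv (DerivedCategory.Q.map (K.shortComplexTruncLEX₃ToTruncGE n₀ n₁ h)) ≫
    (DerivedCategory.triangleOfSES hS).mor₃,
    isomorphic_distinguished _ (DerivedCategory.triangleOfSES_distinguished hS) _ (Iso.symm ?_)⟩
  refine Triangle.isoMk _ _ (Iso.refl _) (Iso.refl _)
    (@asIso _ _ _ _ _ hI) ?_ ?_ ?_
  · exact (Category.comp_id _).trans (Category.id_comp _).symm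
  · refine Eq.trans ?_ (Category.id_comp _).symm
    show DerivedCategory.Q.map _ ≫ DerivedCategory.Q.map _ = DerivedCategory.Q.map _
    rw [← Functor.map_comp, CochainComplex.g_shortComplexTruncLEX₃ToTruncGE K n₀ n₁ h]
  · exact (congrArg _ (CategoryTheory.Functor.map_id _ _)).trans ((Category.comp_id _).trans
      (IsIso.hom_inv_id_assoc _ _).symm)

end Groth.Agent.DHA.TruncHom
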