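/-
Bounded above resolutions by objects in a class with enough objects, and the dual statement.
-/
import Mathlib.Algebra.Homology.Refinements
import Mathlib.Algebra.Homology.Opposite
import Mathlib.Algebra.Homology.CochainComplexOpposite
import Mathlib.Algebra.Homology.Embedding.CochainComplex
import Mathlib.CategoryTheory.Abelian.Opposite

universe v u

open CategoryTheory CategoryTheory.Limits Opposite

namespace Groth.Agent.DHA.ClassRes

variable {A : Type u} [Category.{v} A] [Abelian A]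

section Left

variable (K : CochainComplex A ℤ)

/-- one stage of the construction, living in degree `n` -/
structure St (P : A → Prop) (n : ℤ) where
  Q : A
  hQ : P Q
  Z : A
  i : Z ⟶ Q
  a : Q ⟶ K.X n
  ha : Epi a
  hcyc : i ≫ a ≫ K.d n (n + 1) = 0
  lift : ∀ ⦃T : A⦄ (x : T ⟶ K.X n), x ≫ K.d n (n + 1) = 0 →
    ∃ (T' : A) (π : T' ⟶ T) (_ : Epi π) (z : T' ⟶ Z), π ≫ x = z ≫ i ≫ a

variable {K} {P : A → Prop}

/-- the compatibility between consecutive stages -/
structure Link {m : ℤ} (s' : St K P m) (s : St K P (m + 1)) (d : s'.Q ⟶ s.Q) : Prop where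
  comm : d ≫ s.a = s'.a ≫ K.d m (m + 1)
  fac : ∃ u, u ≫ s.i = d
  cyc : s'.i ≫ d = 0
  ker : ∀ ⦃T : A⦄ (x : T ⟶ s'.Q), x ≫ d = 0 → ∃ z : T ⟶ s'.Z, z ≫ s'.i = x
  lift : ∀ ⦃T : A⦄ (x : T ⟶ K.X m) (z : T ⟶ s.Z), x ≫ K.d m (m + 1) = z ≫ s.i ≫ s.a →
    ∃ (T' : A) (π : T' ⟶ T) (_ : Epi π) (w : T' ⟶ s'.Q), π ≫ x = w ≫ s'.a ∧ π ≫ z ≫ s.i = w ≫ d

variable (hP : ∀ X : A, ∃ (Y : A) (π : Y ⟶ X), P Y ∧ Epi π)

include hP in
theorem exists_next {m : ℤ} (s : St K P (m + 1)) :
    ∃ (s' : St K P m) (d : s'.Q ⟶ s.Q), Link s' s d := by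
  let F := pullback (K.d m (m + 1)) (s.i ≫ s.a)
  obtain ⟨Y, π, hY, hπ⟩ := hP F
  have : Epi (pullback.fst (K.d m (m + 1)) (s.i ≫ s.a)) := by
    obtain ⟨T', p, hp, z, hz⟩ := s.lift (K.d m (m + 1)) (by simp)
    exact @epi_of_epi_fac _ _ _ _ _ (pullback.lift p z hz) (pullback.fst _ _) p hp
      (pullback.lift_fst _ _ _)
  let a' : Y ⟶ K.X m := π ≫ pullback.fst _ _
  let d : Y ⟶ s.Q := (π ≫ pullback.snd _ _) ≫ s.i
  have comm : d ≫ s.a = a' ≫ K.d m (m + 1) := by
    simp only [d, a', Category.assoc, pullback.condition, F]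
  refine ⟨{ Q := Y, hQ := hY, Z := kernel d, i := kernel.ι d, a := a', ha := inferInstance,
            hcyc := by rw [← comm, kernel.condition_assoc, zero_comp]
            lift := fun T x hx => ?_ }, d,
    ⟨comm, ⟨_, rfl⟩, kernel.condition d, fun T x hx => ⟨kernel.lift d x hx, kernel.lift_ι _ _ _⟩,
      fun T x z hxz => ?_⟩⟩
  · obtain ⟨T', p, hp, y, hy⟩ := surjective_up_to_refinements_of_epi π
      (pullback.lift x 0 (by simpa using hx))
    refine ⟨T', p, hp, kernel.lift d y ?_, ?_⟩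
    · simp only [d]
      rw [← Category.assoc, ← Category.assoc, ← hy, Category.assoc p, pullback.lift_snd,
        comp_zero, zero_comp]
    · rw [kernel.lift_ι_assoc, ← Category.assoc, ← hy, Category.assoc, pullback.lift_fst]
  · obtain ⟨T', p, hp, y, hy⟩ := surjective_up_to_refinements_of_epi π (pullback.lift x z hxz)
    refine ⟨T', p, hp, y, ?_, ?_⟩
    · simp only [a']
      rw [← Category.assoc, ← hy, Category.assoc, pullback.lift_fst]
    · simp only [d]
      rw [← Category.assoc y, ← Category.assoc y, ← hy, Category.assoc p, pullback.lift_snd,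
        Category.assoc]

variable {Z₀ : A} (hZ₀ : IsZero Z₀) (hPZ₀ : P Z₀) (a : ℤ) [K.IsStrictlyLE a]

/-- the trivial stage above `a` -/
noncomputable def trivSt (m : ℤ) (hm : a < m) : St K P m where
  Q := Z₀
  hQ := hPZ₀
  Z := Z₀
  i := 𝟙 _
  a := 0
  ha := ⟨fun g h _ => (K.isZero_of_isStrictlyLE a m hm).eq_of_src g h⟩
  hcyc := by simp
  lift := fun T x _ => ⟨T, 𝟙 T, inferInstance, 0,
    (K.isZero_of_isStrictlyLE a m hm).eq_of_tgt _ _⟩

/-- all stages -/
noncomputable def stageAt : ∀ (k : ℕ) (m : ℤ), a + 1 - k ≤ m → St K P m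
  | 0, m, h => trivSt (Z₀ := Z₀) hPZ₀ a m (by omega)
  | k + 1, m, h => (exists_next hP (stageAt k (m + 1) (by omega))).choose

lemma stageAt_congr {k k' : ℕ} (hk : k = k') (m : ℤ) (h : a + 1 - k ≤ m) (h' : a + 1 - k' ≤ m) :
    stageAt (K := K) hP hPZ₀ a k m h = stageAt (K := K) hP hPZ₀ a k' m h' := by
  subst hk
  rfl

include hP hZ₀ hPZ₀ in
theorem exists_leftResolution :
    ∃ (Q : CochainComplex A ℤ) (α : Q ⟶ K),
      Q.IsStrictlyLE a ∧ (∀ n, P (Q.X n)) ∧ (∀ n, Epi (α.f n)) ∧ QuasiIso α := by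
  let S : ∀ m, St K P m := fun m =>
    stageAt (K := K) hP hPZ₀ a (a + 1 - m).toNat m (by omega)
  have hzero : ∀ m, a < m → IsZero (S m).Q := fun m hm => by
    simp only [S]
    rw [stageAt_congr hP hPZ₀ a (show (a + 1 - m).toNat = 0 by omega) m _ (by omega)]
    exact hZ₀
  have hlink : ∀ m, ∃ d, Link (S m) (S (m + 1)) d := fun m => by
    by_cases hm : a < m
    · refine ⟨0, ⟨(K.isZero_of_isStrictlyLE a (m + 1) (by omega)).eq_of_tgt _ _,
        ⟨0, zero_comp⟩, comp_zero, ?_, fun T x z _ => ⟨T, 𝟙 T, inferInstance, 0,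
          (K.isZero_of_isStrictlyLE a m hm).eq_of_tgt _ _,
          (hzero (m + 1) (by omega)).eq_of_tgt _ _⟩⟩⟩
      intro T x _
      have : IsIso (S m).i := by
        simp only [S]
        rw [stageAt_congr hP hPZ₀ a (show (a + 1 - m).toNat = 0 by omega) m _ (by omega)]
        exact inferInstanceAs (IsIso (𝟙 Z₀))
      exact ⟨x ≫ inv (S m).i, by simp⟩
    · simp only [S]
      rw [stageAt_congr hP hPZ₀ a
        (show (a + 1 - m).toNat = (a + 1 - (m + 1)).toNat + 1 by omega) m _ (by omega)]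
      exact (exists_next hP _).choose_spec
  choose d hd using hlink
  let Q : CochainComplex A ℤ := CochainComplex.of (fun m => (S m).Q) d fun m => by
    obtain ⟨u, hu⟩ := (hd m).fac
    rw [← hu, Category.assoc, (hd (m + 1)).cyc, comp_zero]
  have hQd : ∀ m, Q.d m (m + 1) = d m := fun m => by simp [Q]
  let α : Q ⟶ K :=
    { f := fun m => (S m).a
      comm' := fun i j (hij : i + 1 = j) => by
        subst hij
        rw [hQd]
        exact (hd i).comm.symm }
  refine ⟨Q, α, ?_, fun n => (S n).hQ, fun n => (S n).ha, ?_⟩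
  · rw [CochainComplex.isStrictlyLE_iff]
    exact fun i hi => hzero i hi
  rw [quasiIso_iff]
  intro j
  rw [quasiIsoAt_iff_isIso_homologyMap]
  obtain ⟨i, rfl⟩ : ∃ i, j = i + 1 := ⟨j - 1, by omega⟩
  have hmono : Mono (HomologicalComplex.homologyMap α (i + 1)) := by
    rw [HomologicalComplex.mono_homologyMap_iff_up_to_refinements α i (i + 1) (i + 1 + 1)
      (by simp) (by simp)]
    intro T x hx y hy
    rw [hQd] at hx
    obtain ⟨z, hz⟩ := (hd (i + 1)).ker x hx
    obtain ⟨T', p, hp, w, -, hw⟩ := (hd i).lift y z (by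
      rw [reassoc_of% hz]; exact hy.symm)
    exact ⟨T', p, hp, w, by rw [hQd, ← hz]; exact hw⟩
  have hepi : Epi (HomologicalComplex.homologyMap α (i + 1)) := by
    rw [HomologicalComplex.epi_homologyMap_iff_up_to_refinements α i (i + 1) (i + 1 + 1)
      (by simp) (by simp)]
    intro T y hy
    obtain ⟨T', p, hp, z, hz⟩ := (S (i + 1)).lift y hy
    refine ⟨T', p, hp, z ≫ (S (i + 1)).i, ?_, 0, ?_⟩
    · rw [hQd, Category.assoc, (hd (i + 1)).cyc, comp_zero]
    · rw [hz, zero_comp, add_zero, Category.assoc]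
  exact isIso_of_mono_of_epi _

end Left

/-- truncation variant -/
theorem exists_leftResolution_of_homology {P : A → Prop}
    (hP : ∀ X : A, ∃ (Y : A) (π : Y ⟶ X), P Y ∧ Epi π) (hP0 : ∃ Z : A, IsZero Z ∧ P Z)
    (K : CochainComplex A ℤ) (a : ℤ) [K.IsLE a] :
    ∃ (Q : CochainComplex A ℤ) (α : Q ⟶ K),
      Q.IsStrictlyLE a ∧ (∀ n, P (Q.X n)) ∧ QuasiIso α := by
  obtain ⟨Z, hZ, hPZ⟩ := hP0
  obtain ⟨Q, α, h₁, h₂, -, h₄⟩ := exists_leftResolution (K := K.truncLE a) hP hZ hPZ a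
  exact ⟨Q, α ≫ K.ιTruncLE a, h₁, h₂, inferInstance⟩

section Right

lemma quasiIso_op_of_quasiIso {K L : CochainComplex A ℤ} (f : K ⟶ L)
    (h : QuasiIso ((CochainComplex.opEquivalence A).functor.map f.op)) : QuasiIso f := by
  rw [quasiIso_iff]
  intro n
  obtain ⟨m, rfl⟩ : ∃ m, n = -m := ⟨-n, (neg_neg n).symm⟩
  have h' := (quasiIso_iff _).1 h m
  rw [quasiIsoAt_iff' _ (m - 1) m (m + 1) (by simp) (by simp)] at h'
  rw [quasiIsoAt_iff' f (-(m + 1)) (-m) (-(m - 1)) (by simp; omega) (by simp; omega)]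
  exact (ShortComplex.quasiIso_opMap_iff _).1 h'

theorem exists_rightResolution {I : A → Prop} (hI : ∀ X : A, ∃ (Y : A) (ι : X ⟶ Y), I Y ∧ Mono ι)
    (hI0 : ∃ Z : A, IsZero Z ∧ I Z) (K : CochainComplex A ℤ) (a : ℤ) [K.IsStrictlyGE a] :
    ∃ (L : CochainComplex A ℤ) (α : K ⟶ L),
      L.IsStrictlyGE a ∧ (∀ n, I (L.X n)) ∧ (∀ n, Mono (α.f n)) ∧ QuasiIso α := by
  let E := CochainComplex.opEquivalence A
  let K' := E.functor.obj (op K)
  have : CochainComplex.IsStrictlyLE K' (-a) := by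
    rw [CochainComplex.isStrictlyLE_iff]
    exact fun i hi => (K.isZero_of_isStrictlyGE a (-i) (by omega)).op
  obtain ⟨Z, hZ, hIZ⟩ := hI0
  obtain ⟨Q, β, h₁, h₂, h₃, h₄⟩ := exists_leftResolution (K := K') (P := fun X => I X.unop)
    (fun X => by
      obtain ⟨Y, j, hY, hj⟩ := hI X.unop
      exact ⟨op Y, j.op, hY, inferInstance⟩) (Z₀ := op Z) hZ.op hIZ (-a)
  let L : CochainComplex A ℤ :=
    { X := fun n => (Q.X (-n)).unop
      d := fun i j => (Q.d (-j) (-i)).unop
      shape := fun i j h => by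
        rw [Q.shape _ _ (fun h' => h (by
          have h'' : -j + 1 = -i := h'
          show i + 1 = j
          omega)), unop_zero]
      d_comp_d' := fun i j k _ _ => by rw [← unop_comp, Q.d_comp_d, unop_zero] }
  let bf : ∀ n, K.X (- -n) ⟶ L.X n := fun n => (β.f (-n)).unop
  let φ : ∀ n, K.X n ⟶ L.X n := fun n => eqToHom (congrArg K.X (neg_neg n).symm) ≫ bf n
  let α : K ⟶ L :=
    { f := φ
      comm' := fun i j (hij : i + 1 = j) => by
        have hc : K.d (- -i) (- -j) ≫ bf j = bf i ≫ L.d i j :=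
          congrArg Quiver.Hom.unop (β.comm (-j) (-i))
        have gen : ∀ (i' j' : ℤ) (hi : i = i') (hj : j = j') (bi : K.X i' ⟶ L.X i)
            (bj : K.X j' ⟶ L.X j), K.d i' j' ≫ bj = bi ≫ L.d i j →
            (eqToHom (congrArg K.X hi) ≫ bi) ≫ L.d i j =
              K.d i j ≫ eqToHom (congrArg K.X hj) ≫ bj := by
          intro i' j' hi hj bi bj h
          subst hi hj
          simp [h]
        exact gen _ _ (neg_neg i).symm (neg_neg j).symm _ _ hc }
  have hLz : ∀ n, n < a → IsZero (L.X n) := fun n hn =>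
    ((CochainComplex.isZero_of_isStrictlyLE Q (-a) (-n) (by omega))).unop
  refine ⟨L, α, ?_, fun n => h₂ (-n), fun n => ?_, ?_⟩
  · rw [CochainComplex.isStrictlyGE_iff]; exact hLz
  · have := h₃ (-n)
    have : Mono (bf n) := unop_mono_of_epi (β.f (-n))
    exact inferInstanceAs (Mono (eqToHom _ ≫ bf n))
  · refine quasiIso_op_of_quasiIso α ?_
    let e : E.functor.obj (op L) ≅ Q :=
      HomologicalComplex.Hom.isoOfComponents
        (fun n => (eqToIso (congrArg Q.X (neg_neg n)) : Q.X (- -n) ≅ Q.X n))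
        (fun i j _ => by
          have gen : ∀ (i' j' : ℤ) (hi : i' = i) (hj : j' = j),
              eqToHom (congrArg Q.X hi) ≫ Q.d i j = Q.d i' j' ≫ eqToHom (congrArg Q.X hj) := by
            intro i' j' hi hj
            subst hi hj
            simp
          exact gen _ _ (neg_neg i) (neg_neg j))
    have : E.functor.map α.op = e.hom ≫ β := by
      ext n
      show (φ (-n)).op = eqToHom (congrArg Q.X (neg_neg n)) ≫ β.f n
      have gen : ∀ (m : ℤ) (hm : m = n) (h' : K.X (-n) = K.X (-m)),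
          (eqToHom h' ≫ (β.f m).unop).op = eqToHom (congrArg Q.X hm) ≫ β.f n := by
        intro m hm h'
        subst hm
        rw [eqToHom_refl, eqToHom_refl]
        exact congrArg Quiver.Hom.op (Category.id_comp _) |>.trans (Category.id_comp _).symm
      exact gen _ (neg_neg n) _
    rw [this]
    infer_instance

theorem exists_rightResolution_of_homology {I : A → Prop}
    (hI : ∀ X : A, ∃ (Y : A) (ι : X ⟶ Y), I Y ∧ Mono ι)
    (hI0 : ∃ Z : A, IsZero Z ∧ I Z) (K : CochainComplex A ℤ) (a : ℤ) [K.IsGE a] :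
    ∃ (L : CochainComplex A ℤ) (α : K ⟶ L),
      L.IsStrictlyGE a ∧ (∀ n, I (L.X n)) ∧ QuasiIso α := by
  obtain ⟨L, α, h₁, h₂, -, h₄⟩ := exists_rightResolution hI hI0 (K.truncGE a) a
  exact ⟨L, K.πTruncGE a ≫ α, h₁, h₂, inferInstance⟩

end Right

end Groth.Agent.DHA.ClassRes
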