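/-
Short exact sequences of bounded below complexes have short exact injective resolutions.
-/
import Groth.Agent.DHA.ClassRes
import Mathlib.Algebra.Homology.HomologySequenceLemmas
import Mathlib.Algebra.Homology.HomologicalComplexLimits
import Mathlib.CategoryTheory.Preadditive.Injective.Basic
import Mathlib.CategoryTheory.Abelian.Basic

universe v u

open CategoryTheory CategoryTheory.Limits

namespace Groth.Agent.DHA.Horseshoe

variable {A : Type u} [Category.{v} A] [Abelian A] [EnoughInjectives A]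

lemma exists_injRes (K : CochainComplex A ℤ) (n : ℤ) [K.IsStrictlyGE n] :
    ∃ (L : CochainComplex A ℤ) (α : K ⟶ L),
      L.IsStrictlyGE n ∧ (∀ k, Injective (L.X k)) ∧ (∀ k, Mono (α.f k)) ∧ QuasiIso α := by
  obtain ⟨Z, hZ⟩ : ∃ Z : A, IsZero Z := ⟨_, isZero_zero A⟩
  exact ClassRes.exists_rightResolution (I := fun X => Injective X)
    (fun X => ⟨Injective.under X, Injective.ι X, inferInstance, inferInstance⟩)
    ⟨Z, hZ, ⟨fun _ _ _ => ⟨0, hZ.eq_of_tgt _ _⟩⟩⟩ K n

theorem exists_shortExact_resolution (S : ShortComplex (CochainComplex A ℤ)) (hS : S.ShortExact)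
    (n : ℤ) [S.X₁.IsStrictlyGE n] [S.X₂.IsStrictlyGE n] :
    ∃ (T : ShortComplex (CochainComplex A ℤ)) (φ : S ⟶ T), T.ShortExact ∧
      T.X₁.IsStrictlyGE n ∧ T.X₂.IsStrictlyGE n ∧ T.X₃.IsStrictlyGE n ∧
      (∀ k : ℤ, Injective (T.X₁.X k) ∧ Injective (T.X₂.X k) ∧ Injective (T.X₃.X k)) ∧
      QuasiIso φ.τ₁ ∧ QuasiIso φ.τ₂ ∧ QuasiIso φ.τ₃ := by
  obtain ⟨I₁, i₁, h₁, hI₁, hm₁, hq₁⟩ := exists_injRes S.X₁ n
  have := hS.mono_f
  have hi₁ : Mono i₁ := HomologicalComplex.mono_of_mono_f i₁ hm₁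
  have hpo := IsPushout.of_hasPushout S.f i₁
  let P := pushout S.f i₁
  have hP : P.IsStrictlyGE n := by
    rw [CochainComplex.isStrictlyGE_iff]
    intro k hk
    have hk' := hpo.map (HomologicalComplex.eval A (ComplexShape.up ℤ) k)
    rw [IsZero.iff_id_eq_zero]
    exact hk'.hom_ext ((S.X₂.isZero_of_isStrictlyGE n k hk).eq_of_src _ _)
      ((I₁.isZero_of_isStrictlyGE n k hk).eq_of_src _ _)
  -- `S.X₂ ⟶ P` is a quasi-isomorphism
  have hinl : QuasiIso (pushout.inl S.f i₁) := by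
    let π : P ⟶ cokernel i₁ := pushout.desc 0 (cokernel.π i₁) (by simp)
    have w : pushout.inl S.f i₁ ≫ π = 0 := pushout.inl_desc _ _ _
    let hc : IsColimit (CokernelCofork.ofπ π w) := CokernelCofork.IsColimit.ofπ _ _
      (fun g hg => cokernel.desc i₁ (pushout.inr S.f i₁ ≫ g)
        (by rw [← Category.assoc, ← hpo.w, Category.assoc, hg, comp_zero]))
      (fun g hg => hpo.hom_ext (by rw [reassoc_of% w, zero_comp, hg])
        (by rw [← Category.assoc, pushout.inr_desc, cokernel.π_desc]))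
      (fun g hg m hm => by
        rw [← cancel_epi (cokernel.π i₁), cokernel.π_desc, ← hm, ← Category.assoc,
          pushout.inr_desc])
    have : Epi π := Cofork.IsColimit.epi hc
    have hSES : (ShortComplex.mk _ _ w).ShortExact :=
      { exact := ShortComplex.exact_of_g_is_cokernel _ hc }
    have hac : (cokernel i₁).Acyclic :=
      ({ exact := ShortComplex.exact_cokernel i₁ } :
        (ShortComplex.mk _ _ (cokernel.condition i₁)).ShortExact).acyclic_X₃ hq₁
    rw [quasiIso_iff]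
    intro k
    rw [quasiIsoAt_iff_isIso_homologyMap]
    have h₁ : Mono (HomologicalComplex.homologyMap (pushout.inl S.f i₁) k) :=
      (hSES.homology_exact₁ (k - 1) k (by simp)).mono_g
        ((hac (k - 1)).isZero_homology.eq_of_src _ _)
    have h₂ : Epi (HomologicalComplex.homologyMap (pushout.inl S.f i₁) k) :=
      (hSES.homology_exact₂ k).epi_f ((hac k).isZero_homology.eq_of_tgt _ _)
    exact isIso_of_mono_of_epi _
  obtain ⟨I₂, j, h₂, hI₂, hm₂, hq₂⟩ := exists_injRes P n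
  have hj : Mono j := HomologicalComplex.mono_of_mono_f j hm₂
  let u : I₁ ⟶ I₂ := pushout.inr S.f i₁ ≫ j
  let I₃ := cokernel u
  let T : ShortComplex (CochainComplex A ℤ) := ShortComplex.mk u (cokernel.π u) (cokernel.condition u)
  have hT : T.ShortExact := { exact := ShortComplex.exact_cokernel u }
  let τ₂ : S.X₂ ⟶ I₂ := pushout.inl S.f i₁ ≫ j
  have w₁ : i₁ ≫ u = S.f ≫ τ₂ := by
    simp only [u, τ₂, ← Category.assoc, hpo.w]
  have := hS.epi_g
  obtain ⟨τ₃, hτ₃⟩ : ∃ τ₃ : S.X₃ ⟶ I₃, S.g ≫ τ₃ = τ₂ ≫ cokernel.π u :=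
    ⟨_, (CokernelCofork.IsColimit.desc' hS.gIsCokernel (τ₂ ≫ cokernel.π u)
      (by rw [← Category.assoc, ← w₁, Category.assoc, cokernel.condition, comp_zero])).2⟩
  let φ : S ⟶ T :=
    { τ₁ := i₁, τ₂ := τ₂, τ₃ := τ₃
      comm₁₂ := w₁
      comm₂₃ := hτ₃.symm }
  have hτ₂ : QuasiIso φ.τ₂ := inferInstanceAs (QuasiIso (pushout.inl S.f i₁ ≫ j))
  have hinj : ∀ k, Injective (I₃.X k) ∧ (k < n → IsZero (I₃.X k)) := fun k => by
    have hk := hT.map_of_exact (HomologicalComplex.eval A (ComplexShape.up ℤ) k)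
    have : Injective (I₁.X k) := hI₁ k
    have := hI₂ k
    have : Injective (T.map (HomologicalComplex.eval A (ComplexShape.up ℤ) k)).X₁ := hI₁ k
    have : Mono (T.map (HomologicalComplex.eval A (ComplexShape.up ℤ) k)).f := hk.mono_f
    let s : ShortComplex.Splitting _ :=
      ShortComplex.Splitting.ofExactOfRetraction _ hk.exact
        (Injective.factorThru (𝟙 _) (T.map (HomologicalComplex.eval A (ComplexShape.up ℤ) k)).f) (Injective.comp_factorThru _ _) hk.epi_g
    have : Injective (T.map (HomologicalComplex.eval A (ComplexShape.up ℤ) k)).X₂ := hI₂ k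
    refine ⟨Retract.injective { i := s.s, r := _, retract := s.s_g }, fun hkn => ?_⟩
    have hz : IsZero (T.map (HomologicalComplex.eval A (ComplexShape.up ℤ) k)).X₂ :=
      I₂.isZero_of_isStrictlyGE n k hkn
    refine (IsZero.iff_id_eq_zero _).2 ?_
    show 𝟙 (T.map (HomologicalComplex.eval A (ComplexShape.up ℤ) k)).X₃ = 0
    rw [← s.s_g, hz.eq_of_src (T.map (HomologicalComplex.eval A (ComplexShape.up ℤ) k)).g 0,
      comp_zero]
  refine ⟨T, φ, hT, h₁, h₂, ?_, fun k => ⟨hI₁ k, hI₂ k, (hinj k).1⟩, hq₁, hτ₂,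
    HomologicalComplex.HomologySequence.quasiIso_τ₃ φ hS hT hq₁ hτ₂⟩
  rw [CochainComplex.isStrictlyGE_iff]
  exact fun k hk => (hinj k).2 hk

end Groth.Agent.DHA.Horseshoe
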