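/-
Compact objects (in the sense of `CohDer.IsCompactObject`): shifts, extensions.
-/
import Groth.Prelude.Def_CohDer
import Mathlib.CategoryTheory.Triangulated.Subcategory
import Mathlib.CategoryTheory.Adjunction.Additive
import Mathlib.CategoryTheory.Limits.Preserves.Shapes.Products

universe v u

open CategoryTheory CategoryTheory.Limits

namespace Groth.Agent.DHA.Compact

variable {D : Type u} [Category.{v} D] [Preadditive D]

/-- precomposition on finitely supported families of maps -/
noncomputable def pre {A B : D} (a : A ⟶ B) {ι : Type v} (X : ι → D) :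
    DirectSum ι (fun i => B ⟶ X i) →+ DirectSum ι (fun i => A ⟶ X i) :=
  DirectSum.map fun i => Preadditive.leftComp (X i) a

lemma pre_apply {A B : D} (a : A ⟶ B) {ι : Type v} (X : ι → D) (x) (i : ι) :
    pre a X x i = a ≫ x i := by
  simp [pre, DirectSum.map_apply, Preadditive.leftComp]

lemma hom_of {K : D} {ι : Type v} [DecidableEq ι] (X : ι → D) [HasCoproduct X]
    (i : ι) (f : K ⟶ X i) :
    CohDer.homSumToHomCoprod K X (DirectSum.of _ i f) = f ≫ Sigma.ι X i := by
  unfold CohDer.homSumToHomCoprod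
  have : ‹DecidableEq ι› = fun a b => Classical.propDecidable (a = b) := Subsingleton.elim _ _
  subst this
  simp [DirectSum.toAddMonoid_of, Preadditive.rightComp]

lemma hom_pre {A B : D} (a : A ⟶ B) {ι : Type v} (X : ι → D) [HasCoproduct X] (x) :
    CohDer.homSumToHomCoprod A X (pre a X x) = a ≫ CohDer.homSumToHomCoprod B X x := by
  classical
  induction x using DirectSum.induction_on with
  | zero => simp
  | of i f => simp [pre, DirectSum.map_of, hom_of, Preadditive.leftComp]
  | add x y hx hy => simp [map_add, hx, hy, Preadditive.comp_add]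

lemma exists_pre {A B : D} (a : A ⟶ B) {ι : Type v} (X : ι → D)
    (y : DirectSum ι (fun i => A ⟶ X i)) (h : ∀ i, ∃ f : B ⟶ X i, a ≫ f = y i) :
    ∃ x, pre a X x = y := by
  classical
  choose f hf using h
  refine ⟨∑ i ∈ DFinsupp.support y, DirectSum.of _ i (f i), ?_⟩
  rw [map_sum]
  simp only [pre, DirectSum.map_of, Preadditive.leftComp, AddMonoidHom.mk'_apply, hf]
  exact DirectSum.sum_support_of y

section Shift

variable [HasCoproducts.{v} D] [HasShift D ℤ] [∀ n : ℤ, (shiftFunctor D n).Additive]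

theorem shift {K : D} (hK : CohDer.IsCompactObject K) (n : ℤ) :
    CohDer.IsCompactObject ((shiftFunctor D n).obj K) := by
  intro ι X
  classical
  change Function.Bijective (CohDer.homSumToHomCoprod ((shiftEquiv D n).functor.obj K) X)
  let G := (shiftEquiv D n).inverse
  let adj := (shiftEquiv D n).toAdjunction
  haveI : G.Additive := inferInstanceAs (shiftFunctor D (-n)).Additive
  haveI : (shiftEquiv D n).functor.Additive := inferInstanceAs (shiftFunctor D n).Additive
  let Y : ι → D := fun i => G.obj (X i)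
  let T : DirectSum ι (fun i => (shiftEquiv D n).functor.obj K ⟶ X i) →+
      DirectSum ι (fun i => K ⟶ Y i) :=
    DirectSum.map fun i => (adj.homAddEquiv K (X i)).toAddMonoidHom
  let c : (∐ Y) ≅ G.obj (∐ X) := asIso (sigmaComparison G X)
  have hT : Function.Bijective T :=
    ⟨(DirectSum.map_injective _).2 fun i => (adj.homAddEquiv K (X i)).injective,
      (DirectSum.map_surjective _).2 fun i => (adj.homAddEquiv K (X i)).surjective⟩
  have hcomm : ∀ x, adj.homAddEquiv K (∐ X)
      (CohDer.homSumToHomCoprod ((shiftEquiv D n).functor.obj K) X x) =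
        CohDer.homSumToHomCoprod K Y (T x) ≫ c.hom := by
    intro x
    induction x using DirectSum.induction_on with
    | zero => simp only [map_zero, zero_comp]
    | of i f =>
      simp only [T, DirectSum.map_of, hom_of, c, asIso_hom, Category.assoc, ι_comp_sigmaComparison,
        Y]
      exact adj.homEquiv_naturality_right f (Sigma.ι X i)
    | add x y hx hy => simp only [map_add, hx, hy, Preadditive.add_comp]
  constructor
  · intro x y hxy
    apply hT.1
    apply (hK ι Y).1
    rw [← cancel_mono c.hom, ← hcomm, ← hcomm, hxy]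
  · intro g
    obtain ⟨y, hy⟩ := (hK ι Y).2 (adj.homAddEquiv K (∐ X) g ≫ c.inv)
    obtain ⟨x, rfl⟩ := hT.2 y
    exact ⟨x, (adj.homAddEquiv K (∐ X)).injective (by rw [hcomm, hy]; simp)⟩

end Shift

theorem of_iso [HasCoproducts.{v} D] {K K' : D} (e : K ≅ K') (hK : CohDer.IsCompactObject K) :
    CohDer.IsCompactObject K' := by
  intro ι X
  constructor
  · intro x y hxy
    have h := (hK ι X).1 (a₁ := pre e.hom X x) (a₂ := pre e.hom X y)
      (by rw [hom_pre, hom_pre, hxy])
    refine DFinsupp.ext fun i => ?_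
    have := congrArg (fun z : DirectSum ι (fun i => K ⟶ X i) => z i) h
    simpa [pre_apply, cancel_epi] using this
  · intro g
    obtain ⟨y, hy⟩ := (hK ι X).2 (e.hom ≫ g)
    exact ⟨pre e.inv X y, by rw [hom_pre, hy, e.inv_hom_id_assoc]⟩

theorem zero [HasCoproducts.{v} D] {Z : D} (hZ : IsZero Z) : CohDer.IsCompactObject Z := by
  intro ι X
  exact ⟨fun x y _ => DFinsupp.ext fun i => hZ.eq_of_src _ _,
    fun g => ⟨0, hZ.eq_of_src _ _⟩⟩

variable [HasCoproducts.{v} D] [HasZeroObject D] [HasShift D ℤ]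
  [∀ n : ℤ, (shiftFunctor D n).Additive] [Pretriangulated D]

open Pretriangulated in
theorem ext₂ (T : Triangle D) (hT : T ∈ distinguishedTriangles)
    (h₁ : CohDer.IsCompactObject T.obj₁) (h₃ : CohDer.IsCompactObject T.obj₃) :
    CohDer.IsCompactObject T.obj₂ := by
  intro ι X
  constructor
  · rw [injective_iff_map_eq_zero]
    intro x hx
    have h0 : pre T.mor₁ X x = 0 := (h₁ ι X).1 (by rw [hom_pre, hx, comp_zero, map_zero])
    obtain ⟨y, rfl⟩ : ∃ y, pre T.mor₂ X y = x := exists_pre _ _ _ fun i => by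
      obtain ⟨g, hg⟩ := T.yoneda_exact₂ hT (x i) (by rw [← pre_apply, h0]; rfl)
      exact ⟨g, hg.symm⟩
    rw [hom_pre] at hx
    obtain ⟨z, hz⟩ := T.yoneda_exact₃ hT _ hx
    obtain ⟨z', rfl⟩ := ((shift h₁ (1 : ℤ)) ι X).2 z
    obtain rfl : y = pre T.mor₃ X z' := (h₃ ι X).1 (by rw [hz, hom_pre])
    refine DFinsupp.ext fun i => ?_
    exact (pre_apply _ _ _ i).trans (by
      rw [pre_apply, ← Category.assoc, comp_distTriang_mor_zero₂₃ T hT, zero_comp]; rfl)
  · intro f
    obtain ⟨g, hg⟩ := (h₁ ι X).2 (T.mor₁ ≫ f)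
    let a : (shiftFunctor D (-1 : ℤ)).obj T.obj₃ ⟶ T.obj₁ := T.invRotate.mor₁
    have ha : a ≫ T.mor₁ = 0 := comp_distTriang_mor_zero₁₂ _ (inv_rot_of_distTriang _ hT)
    have hzero : ∀ i, a ≫ g i = 0 := by
      have h0 : pre a X g = 0 := by
        apply ((shift h₃ (-1 : ℤ)) ι X).1
        rw [hom_pre, map_zero, hg, ← Category.assoc, ha, zero_comp]
      intro i
      exact (pre_apply _ _ _ i).symm.trans (congrArg (fun z => (z : DirectSum ι _) i) h0)
    obtain ⟨x, rfl⟩ : ∃ x, pre T.mor₁ X x = g := exists_pre _ _ _ fun i => by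
      obtain ⟨h, hh⟩ := T.invRotate.yoneda_exact₂ (inv_rot_of_distTriang _ hT) (g i) (hzero i)
      exact ⟨h, hh.symm⟩
    rw [hom_pre] at hg
    obtain ⟨k, hk⟩ := T.yoneda_exact₂ hT (f - CohDer.homSumToHomCoprod T.obj₂ X x)
      (by rw [Preadditive.comp_sub, hg, sub_self])
    obtain ⟨k', rfl⟩ := (h₃ ι X).2 k
    exact ⟨x + pre T.mor₂ X k', by rw [map_add, hom_pre, ← hk]; abel⟩

theorem isTriangulated :
    ObjectProperty.IsTriangulated (fun K : D => CohDer.IsCompactObject K) where
  exists_zero := by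
    obtain ⟨Z, hZ⟩ := HasZeroObject.zero (C := D)
    exact ⟨Z, hZ, zero hZ⟩
  isStableUnderShiftBy n := ⟨fun _ hK => shift hK n⟩
  ext₂' T hT h₁ h₃ := ObjectProperty.le_isoClosure _ _ (ext₂ T hT h₁ h₃)

theorem retract {K K' : D} (r : Retract K' K) (hK : CohDer.IsCompactObject K) :
    CohDer.IsCompactObject K' := by
  intro ι X
  constructor
  · intro x y hxy
    have h := (hK ι X).1 (a₁ := pre r.r X x) (a₂ := pre r.r X y)
      (by rw [hom_pre, hom_pre, hxy])
    refine DFinsupp.ext fun i => ?_
    have := congrArg (fun z : DirectSum ι (fun i => K ⟶ X i) => r.i ≫ z i) h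
    simpa [pre_apply, ← Category.assoc] using this
  · intro g
    obtain ⟨y, hy⟩ := (hK ι X).2 (r.r ≫ g)
    exact ⟨pre r.i X y, by rw [hom_pre, hy, r.retract_assoc]⟩

end Groth.Agent.DHA.Compact
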