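import Mathlib.CategoryTheory.Triangulated.Generators

universe v u

open CategoryTheory CategoryTheory.Limits CategoryTheory.Pretriangulated ZeroObject

namespace Groth.Agent.DHA.Orth

variable {D : Type u} [Category.{v} D] [Preadditive D] [HasZeroObject D] [HasShift D ℤ]
  [∀ n : ℤ, (shiftFunctor D n).Additive] [Pretriangulated D]

/-- objects with only zero maps to all shifts of `K` -/
def leftOrth (K : D) : ObjectProperty D :=
  fun X => ∀ (n : ℤ) (f : X ⟶ (shiftFunctor D n).obj K), f = 0

instance (K : D) : (leftOrth K).IsStableUnderRetracts where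
  of_retract {X Y} r hY n f := by
    rw [← Category.id_comp f, ← r.retract, Category.assoc, hY n (r.r ≫ f), comp_zero]

lemma shift_mem {K X : D} (hX : leftOrth K X) (a : ℤ) :
    leftOrth K ((shiftFunctor D a).obj X) := by
  intro n f
  obtain ⟨g, rfl⟩ : ∃ g : X ⟶ (shiftFunctor D (n - a)).obj K,
      g⟦a⟧' ≫ ((shiftFunctorAdd' D (n - a) a n (by omega)).app K).inv = f := by
    obtain ⟨g, hg⟩ := (shiftFunctor D a).map_surjective
      (f ≫ ((shiftFunctorAdd' D (n - a) a n (by omega)).app K).hom)
    exact ⟨g, by rw [hg]; simp⟩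
  rw [hX _ g, Functor.map_zero, zero_comp]

instance (K : D) : (leftOrth K).IsTriangulated where
  exists_zero := ⟨0, isZero_zero D, fun _ f => (isZero_zero D).eq_of_src _ _⟩
  isStableUnderShiftBy a := ⟨fun _ hX => shift_mem hX a⟩
  ext₂' T hT h₁ h₃ := ObjectProperty.le_isoClosure _ _ fun n f => by
    obtain ⟨g, rfl⟩ := T.yoneda_exact₂ hT f (h₁ n _)
    rw [h₃ n g, comp_zero]

end Groth.Agent.DHA.Orth
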