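/-
Direct sums of two triangles in pretriangulated categories.
-/
import Mathlib.CategoryTheory.Triangulated.Pretriangulated

set_option linter.unusedSectionVars false

universe v u

open CategoryTheory CategoryTheory.Limits Pretriangulated

namespace Groth.Agent.DHA.BiprodTriangle

variable {D : Type u} [Category.{v} D] [Preadditive D] [HasZeroObject D] [HasShift D ℤ]
  [∀ n : ℤ, (shiftFunctor D n).Additive] [Pretriangulated D]

/-- the direct sum of two triangles -/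
noncomputable def sum (T T' : Triangle D) : Triangle D :=
  Triangle.mk (biprod.map T.mor₁ T'.mor₁) (biprod.map T.mor₂ T'.mor₂)
    (biprod.desc (T.mor₃ ≫ (shiftFunctor D (1 : ℤ)).map biprod.inl)
      (T'.mor₃ ≫ (shiftFunctor D (1 : ℤ)).map biprod.inr))

theorem sum_distinguished {T T' : Triangle D} (hT : T ∈ distTriang D) (hT' : T' ∈ distTriang D) :
    sum T T' ∈ distTriang D := by
  obtain ⟨Z, f₂, f₃, hS⟩ := distinguished_cocone_triangle (biprod.map T.mor₁ T'.mor₁)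
  obtain ⟨p, hp₂, hp₃⟩ : ∃ p : T.obj₃ ⟶ Z, T.mor₂ ≫ p = biprod.inl ≫ f₂ ∧
      T.mor₃ ≫ (shiftFunctor D (1 : ℤ)).map biprod.inl = p ≫ f₃ :=
    complete_distinguished_triangle_morphism _ _ hT hS biprod.inl biprod.inl (biprod.inl_map _ _).symm
  obtain ⟨p', hp'₂, hp'₃⟩ : ∃ p : T'.obj₃ ⟶ Z, T'.mor₂ ≫ p = biprod.inr ≫ f₂ ∧
      T'.mor₃ ≫ (shiftFunctor D (1 : ℤ)).map biprod.inr = p ≫ f₃ :=
    complete_distinguished_triangle_morphism _ _ hT' hS biprod.inr biprod.inr (biprod.inr_map _ _).symm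
  obtain ⟨q, hq₂, hq₃⟩ : ∃ q : Z ⟶ T.obj₃, f₂ ≫ q = biprod.fst ≫ T.mor₂ ∧
      f₃ ≫ (shiftFunctor D (1 : ℤ)).map biprod.fst = q ≫ T.mor₃ :=
    complete_distinguished_triangle_morphism _ _ hS hT biprod.fst biprod.fst (biprod.map_fst _ _)
  obtain ⟨q', hq'₂, hq'₃⟩ : ∃ q : Z ⟶ T'.obj₃, f₂ ≫ q = biprod.snd ≫ T'.mor₂ ∧
      f₃ ≫ (shiftFunctor D (1 : ℤ)).map biprod.snd = q ≫ T'.mor₃ :=
    complete_distinguished_triangle_morphism _ _ hS hT' biprod.snd biprod.snd (biprod.map_snd _ _)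
  let c : T.obj₃ ⊞ T'.obj₃ ⟶ Z := biprod.desc p p'
  let d : Z ⟶ T.obj₃ ⊞ T'.obj₃ := biprod.lift q q'
  let g := biprod.map T.mor₂ T'.mor₂
  let h := biprod.desc (T.mor₃ ≫ (shiftFunctor D (1 : ℤ)).map biprod.inl)
    (T'.mor₃ ≫ (shiftFunctor D (1 : ℤ)).map biprod.inr)
  have hc₂ : g ≫ c = f₂ := by
    refine biprod.hom_ext' _ _ ?_ ?_
    · simp [g, c, hp₂]
    · simp [g, c, hp'₂]
  have hc₃ : h = c ≫ f₃ := by
    refine biprod.hom_ext' _ _ ?_ ?_
    · simp [h, c, hp₃]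
    · simp [h, c, hp'₃]
  have hd₂ : f₂ ≫ d = g := by
    refine biprod.hom_ext _ _ ?_ ?_
    · simp [g, d, hq₂]
    · simp [g, d, hq'₂]
  have hd₃ : f₃ = d ≫ h := by
    have htot : (𝟙 ((T.obj₁ ⊞ T'.obj₁)⟦(1 : ℤ)⟧) : _) =
        (shiftFunctor D (1 : ℤ)).map biprod.fst ≫ (shiftFunctor D (1 : ℤ)).map biprod.inl +
          (shiftFunctor D (1 : ℤ)).map biprod.snd ≫ (shiftFunctor D (1 : ℤ)).map biprod.inr := by
      rw [← Functor.map_comp, ← Functor.map_comp, ← Functor.map_add, biprod.total,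
        CategoryTheory.Functor.map_id]
    show f₃ = d ≫ h
    rw [biprod.lift_desc, ← Category.assoc, ← Category.assoc, ← hq₃, ← hq'₃, Category.assoc,
      Category.assoc, ← Preadditive.comp_add, ← htot]
    exact (Category.comp_id _).symm
  -- the endomorphism of `Z`
  have hdc : IsIso (d ≫ c) := by
    let φ : Triangle.mk (biprod.map T.mor₁ T'.mor₁) f₂ f₃ ⟶
        Triangle.mk (biprod.map T.mor₁ T'.mor₁) f₂ f₃ :=
      { hom₁ := 𝟙 _
        hom₂ := 𝟙 _
        hom₃ := d ≫ c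
        comm₁ := (Category.comp_id _).trans (Category.id_comp _).symm
        comm₂ := by
          show f₂ ≫ d ≫ c = 𝟙 _ ≫ f₂
          rw [reassoc_of% hd₂, hc₂, Category.id_comp]
        comm₃ := by
          show f₃ ≫ (shiftFunctor D (1 : ℤ)).map (𝟙 (T.obj₁ ⊞ T'.obj₁)) = (d ≫ c) ≫ f₃
          rw [CategoryTheory.Functor.map_id, Category.assoc, ← hc₃, ← hd₃, Category.comp_id] }
    exact isIso₃_of_isIso₁₂ φ hS hS (inferInstanceAs (IsIso (𝟙 _))) (inferInstanceAs (IsIso (𝟙 _)))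
  -- the endomorphism of the direct sum
  have hcd : IsIso (c ≫ d) := by
    set δ := c ≫ d - 𝟙 _ with hδ
    have hgδ : g ≫ δ = 0 := by
      rw [hδ, Preadditive.comp_sub, reassoc_of% hc₂, hd₂, Category.comp_id, sub_self]
    have hδh : δ ≫ h = 0 := by
      rw [hδ, Preadditive.sub_comp, Category.assoc, ← hd₃, ← hc₃, Category.id_comp, sub_self]
    have hfst : h ≫ (shiftFunctor D (1 : ℤ)).map biprod.fst = biprod.fst ≫ T.mor₃ := by
      refine biprod.hom_ext' _ _ ?_ ?_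
      · simp [h, ← Functor.map_comp]
      · simp [h, ← Functor.map_comp]
    have hsnd : h ≫ (shiftFunctor D (1 : ℤ)).map biprod.snd = biprod.snd ≫ T'.mor₃ := by
      refine biprod.hom_ext' _ _ ?_ ?_
      · simp [h, ← Functor.map_comp]
      · simp [h, ← Functor.map_comp]
    obtain ⟨l, hl⟩ := Triangle.coyoneda_exact₃ _ hT (δ ≫ biprod.fst)
      (by rw [Category.assoc, ← hfst, reassoc_of% hδh, zero_comp])
    obtain ⟨l', hl'⟩ := Triangle.coyoneda_exact₃ _ hT' (δ ≫ biprod.snd)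
      (by rw [Category.assoc, ← hsnd, reassoc_of% hδh, zero_comp])
    have hδl : δ = biprod.lift l l' ≫ g := by
      refine biprod.hom_ext _ _ ?_ ?_
      · simp [g, hl]
      · simp [g, hl']
    have hsq : δ ≫ δ = 0 := by
      conv_lhs => arg 1; rw [hδl]
      rw [Category.assoc, hgδ, comp_zero]
    have he : c ≫ d = 𝟙 _ + δ := by rw [hδ, add_sub_cancel]
    refine ⟨𝟙 _ - δ, ?_, ?_⟩
    · rw [he]; simp [Preadditive.comp_sub, Preadditive.add_comp, hsq]
    · rw [he]; simp [Preadditive.sub_comp, Preadditive.comp_add, hsq]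
  have hciso : IsIso c := by
    have h₁ : Mono c := @mono_of_mono _ _ _ _ _ c d inferInstance
    have h₂ : IsSplitEpi c := ⟨⟨⟨inv (d ≫ c) ≫ d, by simp⟩⟩⟩
    exact isIso_of_mono_of_isSplitEpi c
  exact isomorphic_distinguished _ hS _
    (Triangle.isoMk _ _ (Iso.refl _) (Iso.refl _) (@asIso _ _ _ _ c hciso)
      ((Category.comp_id _).trans (Category.id_comp _).symm)
      (hc₂.trans (Category.id_comp _).symm)
      ((congrArg _ (CategoryTheory.Functor.map_id _ _)).trans ((Category.comp_id _).trans hc₃)))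

theorem distinguished_left {T T' : Triangle D} (hS : sum T T' ∈ distTriang D) :
    T ∈ distTriang D ∧ T' ∈ distTriang D := by
  obtain ⟨Z, g, h, hT₀⟩ := distinguished_cocone_triangle T.mor₁
  obtain ⟨Z', g', h', hT'₀⟩ := distinguished_cocone_triangle T'.mor₁
  obtain ⟨a, ha₂, ha₃⟩ : ∃ a : Z ⟶ T.obj₃ ⊞ T'.obj₃,
      g ≫ a = biprod.inl ≫ biprod.map T.mor₂ T'.mor₂ ∧
      h ≫ (shiftFunctor D (1 : ℤ)).map biprod.inl = a ≫
        biprod.desc (T.mor₃ ≫ (shiftFunctor D (1 : ℤ)).map biprod.inl)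
          (T'.mor₃ ≫ (shiftFunctor D (1 : ℤ)).map biprod.inr) :=
    complete_distinguished_triangle_morphism _ _ hT₀ hS biprod.inl biprod.inl (biprod.inl_map _ _).symm
  obtain ⟨b, hb₂, hb₃⟩ : ∃ b : Z' ⟶ T.obj₃ ⊞ T'.obj₃,
      g' ≫ b = biprod.inr ≫ biprod.map T.mor₂ T'.mor₂ ∧
      h' ≫ (shiftFunctor D (1 : ℤ)).map biprod.inr = b ≫
        biprod.desc (T.mor₃ ≫ (shiftFunctor D (1 : ℤ)).map biprod.inl)
          (T'.mor₃ ≫ (shiftFunctor D (1 : ℤ)).map biprod.inr) :=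
    complete_distinguished_triangle_morphism _ _ hT'₀ hS biprod.inr biprod.inr (biprod.inr_map _ _).symm
  let a' : Z ⟶ T.obj₃ := a ≫ biprod.fst
  let b' : Z' ⟶ T'.obj₃ := b ≫ biprod.snd
  have hfst : biprod.desc (T.mor₃ ≫ (shiftFunctor D (1 : ℤ)).map biprod.inl)
      (T'.mor₃ ≫ (shiftFunctor D (1 : ℤ)).map biprod.inr) ≫
        (shiftFunctor D (1 : ℤ)).map (biprod.fst (X := T.obj₁) (Y := T'.obj₁)) =
      biprod.fst ≫ T.mor₃ := by
    refine biprod.hom_ext' _ _ ?_ ?_ <;> simp [← Functor.map_comp]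
  have hsnd : biprod.desc (T.mor₃ ≫ (shiftFunctor D (1 : ℤ)).map biprod.inl)
      (T'.mor₃ ≫ (shiftFunctor D (1 : ℤ)).map biprod.inr) ≫
        (shiftFunctor D (1 : ℤ)).map (biprod.snd (X := T.obj₁) (Y := T'.obj₁)) =
      biprod.snd ≫ T'.mor₃ := by
    refine biprod.hom_ext' _ _ ?_ ?_ <;> simp [← Functor.map_comp]
  have ha'₂ : g ≫ a' = T.mor₂ := by simp [a', reassoc_of% ha₂]
  have hb'₂ : g' ≫ b' = T'.mor₂ := by simp [b', reassoc_of% hb₂]
  have ha'₃ : h = a' ≫ T.mor₃ := by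
    have := ha₃ =≫ (shiftFunctor D (1 : ℤ)).map (biprod.fst (X := T.obj₁) (Y := T'.obj₁))
    rw [Category.assoc, ← Functor.map_comp, biprod.inl_fst, Category.assoc, hfst,
      CategoryTheory.Functor.map_id, Category.comp_id] at this
    rw [this, Category.assoc]
  have hb'₃ : h' = b' ≫ T'.mor₃ := by
    have := hb₃ =≫ (shiftFunctor D (1 : ℤ)).map (biprod.snd (X := T.obj₁) (Y := T'.obj₁))
    rw [Category.assoc, ← Functor.map_comp, biprod.inr_snd, Category.assoc, hsnd,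
      CategoryTheory.Functor.map_id, Category.comp_id] at this
    rw [this, Category.assoc]
  let φ : sum (Triangle.mk T.mor₁ g h) (Triangle.mk T'.mor₁ g' h') ⟶ sum T T' :=
    { hom₁ := 𝟙 _
      hom₂ := 𝟙 _
      hom₃ := biprod.map a' b'
      comm₁ := (Category.comp_id _).trans (Category.id_comp _).symm
      comm₂ := by
        show biprod.map g g' ≫ biprod.map a' b' = 𝟙 _ ≫ biprod.map T.mor₂ T'.mor₂
        rw [Category.id_comp]
        refine biprod.hom_ext' _ _ ?_ ?_ <;> simp [reassoc_of% ha'₂, reassoc_of% hb'₂]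
      comm₃ := by
        show biprod.desc (h ≫ (shiftFunctor D (1 : ℤ)).map biprod.inl)
            (h' ≫ (shiftFunctor D (1 : ℤ)).map biprod.inr) ≫
              (shiftFunctor D (1 : ℤ)).map (𝟙 (T.obj₁ ⊞ T'.obj₁)) =
          biprod.map a' b' ≫ biprod.desc (T.mor₃ ≫ (shiftFunctor D (1 : ℤ)).map biprod.inl)
            (T'.mor₃ ≫ (shiftFunctor D (1 : ℤ)).map biprod.inr)
        rw [CategoryTheory.Functor.map_id, Category.comp_id]
        refine biprod.hom_ext' _ _ ?_ ?_ <;> simp [ha'₃, hb'₃] }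
  have hφ : IsIso (biprod.map a' b') :=
    isIso₃_of_isIso₁₂ φ (sum_distinguished hT₀ hT'₀) hS (inferInstanceAs (IsIso (𝟙 _)))
      (inferInstanceAs (IsIso (𝟙 _)))
  have hA : IsIso a' := ⟨biprod.inl ≫ inv (biprod.map a' b') ≫ biprod.fst, by
      rw [← biprod.inl_map_assoc a' b', IsIso.hom_inv_id_assoc, biprod.inl_fst], by
      rw [Category.assoc, Category.assoc, ← biprod.map_fst a' b', IsIso.inv_hom_id_assoc,
        biprod.inl_fst]⟩
  have hB : IsIso b' := ⟨biprod.inr ≫ inv (biprod.map a' b') ≫ biprod.snd, by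
      rw [← biprod.inr_map_assoc a' b', IsIso.hom_inv_id_assoc, biprod.inr_snd], by
      rw [Category.assoc, Category.assoc, ← biprod.map_snd a' b', IsIso.inv_hom_id_assoc,
        biprod.inr_snd]⟩
  exact ⟨isomorphic_distinguished _ hT₀ _ (Triangle.isoMk (Triangle.mk T.mor₁ g h) T
      (Iso.refl _) (Iso.refl _) (@asIso _ _ _ _ a' hA)
      ((Category.comp_id _).trans (Category.id_comp _).symm)
      (ha'₂.trans (Category.id_comp _).symm)
      ((congrArg _ (CategoryTheory.Functor.map_id _ _)).trans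
        ((Category.comp_id _).trans ha'₃))).symm,
    isomorphic_distinguished _ hT'₀ _ (Triangle.isoMk (Triangle.mk T'.mor₁ g' h') T'
      (Iso.refl _) (Iso.refl _) (@asIso _ _ _ _ b' hB)
      ((Category.comp_id _).trans (Category.id_comp _).symm)
      (hb'₂.trans (Category.id_comp _).symm)
      ((congrArg _ (CategoryTheory.Functor.map_id _ _)).trans
        ((Category.comp_id _).trans hb'₃))).symm⟩

end Groth.Agent.DHA.BiprodTriangle
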