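/-
Dévissage in the derived category by terms and by cohomology of bounded above complexes.
-/
import Mathlib.Algebra.Homology.DerivedCategory.TStructure
import Mathlib.Algebra.Homology.DerivedCategory.ShortExact
import Mathlib.Algebra.Homology.SingleHomology

universe w v u

open CategoryTheory CategoryTheory.Limits CategoryTheory.Pretriangulated

namespace Groth.Agent.DHA.DInduction

variable {C : Type u} [Category.{v} C] [Abelian C] [HasDerivedCategory.{w} C]

/-- closure under extensions -/
def ExtClosed (R : ObjectProperty (DerivedCategory C)) : Prop :=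
  ∀ T : Triangle (DerivedCategory C), T ∈ distinguishedTriangles → R T.obj₁ → R T.obj₃ → R T.obj₂

/-- dévissage along the terms of a bounded above complex -/
theorem mem_of_terms (R : ObjectProperty (DerivedCategory C)) [R.IsClosedUnderIsomorphisms]
    (hext : ExtClosed R) (n : ℤ)
    (hbase : ∀ X : CochainComplex C ℤ, (∀ i, n ≤ i → IsZero (X.X i)) → R (DerivedCategory.Q.obj X))
    (X : CochainComplex C ℤ) (b : ℤ) (hb : ∀ i, b < i → IsZero (X.X i))
    (hterm : ∀ i, n ≤ i → i ≤ b → R ((DerivedCategory.singleFunctor C i).obj (X.X i))) :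
    R (DerivedCategory.Q.obj X) := by
  obtain ⟨k, hk⟩ : ∃ k : ℕ, b + 1 ≤ n + k := ⟨(b + 1 - n).toNat, by omega⟩
  induction k generalizing b X with
  | zero => exact hbase X fun i hi => hb i (by omega)
  | succ k ih =>
    by_cases hbn : b < n
    · exact hbase X fun i hi => hb i (by omega)
    let φ : (HomologicalComplex.single C (ComplexShape.up ℤ) b).obj (X.X b) ⟶ X :=
      HomologicalComplex.mkHomFromSingle (𝟙 (X.X b)) (fun j hj =>
        (hb j (by change b + 1 = j at hj; omega)).eq_of_tgt _ _)
    have hmono : ∀ i, Mono (φ.f i) := fun i => by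
      by_cases hi : i = b
      · subst hi
        rw [show φ.f i = (HomologicalComplex.singleObjXSelf (ComplexShape.up ℤ) i (X.X i)).hom ≫ 𝟙 _
          from HomologicalComplex.mkHomFromSingle_f _ _]
        infer_instance
      · exact ⟨fun _ _ _ => (HomologicalComplex.isZero_single_obj_X (ComplexShape.up ℤ) b _ i hi).eq_of_tgt _ _⟩
    have : Mono φ := HomologicalComplex.mono_of_mono_f φ hmono
    let S : ShortComplex (CochainComplex C ℤ) :=
      ShortComplex.mk φ (cokernel.π φ) (cokernel.condition φ)
    have hS : S.ShortExact :=
      { exact := ShortComplex.exact_of_g_is_cokernel _ (cokernelIsCokernel φ) }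
    let e : ∀ i, (cokernel φ).X i ≅ cokernel (φ.f i) := fun i =>
      PreservesCokernel.iso (HomologicalComplex.eval C (ComplexShape.up ℤ) i) φ
    have he : ∀ i, i ≠ b → Nonempty ((cokernel φ).X i ≅ X.X i) := fun i hi =>
      ⟨e i ≪≫ cokernelIsoOfEq
        ((HomologicalComplex.isZero_single_obj_X (ComplexShape.up ℤ) b (X.X b) i hi).eq_of_src _ 0) ≪≫
          cokernelZeroIsoTarget⟩
    have hzero : IsZero ((cokernel φ).X b) := by
      have : IsIso (φ.f b) := by
        rw [show φ.f b = (HomologicalComplex.singleObjXSelf (ComplexShape.up ℤ) b (X.X b)).hom ≫ 𝟙 _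
          from HomologicalComplex.mkHomFromSingle_f _ _]
        infer_instance
      exact (isZero_cokernel_of_epi (φ.f b)).of_iso (e b)
    refine hext _ (DerivedCategory.triangleOfSES_distinguished hS) ?_ ?_
    · exact R.prop_of_iso ((DerivedCategory.singleFunctorIsoCompQ C b).app (X.X b))
        (hterm b (by omega) le_rfl)
    · refine ih (cokernel φ) (b - 1) (fun i hi => ?_) (fun i hi hi' => ?_) (by omega)
      · by_cases h : i = b
        · subst h; exact hzero
        · exact (hb i (by omega)).of_iso (he i h).some
      · exact R.prop_of_iso ((DerivedCategory.singleFunctor C i).mapIso (he i (by omega)).some).symm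
          (hterm i hi (by omega))

/-- dévissage along the cohomology of a bounded above complex -/
theorem mem_of_homology (R : ObjectProperty (DerivedCategory C)) [R.IsClosedUnderIsomorphisms]
    (hext : ExtClosed R) (n : ℤ)
    (hbase : ∀ X : CochainComplex C ℤ, (∀ i, n ≤ i → IsZero (X.homology i)) →
      R (DerivedCategory.Q.obj X))
    (X : CochainComplex C ℤ) (b : ℤ) (hb : ∀ i, b < i → IsZero (X.homology i))
    (hterm : ∀ i, n ≤ i → i ≤ b → R ((DerivedCategory.singleFunctor C i).obj (X.homology i))) :
    R (DerivedCategory.Q.obj X) := by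
  obtain ⟨k, hk⟩ : ∃ k : ℕ, b + 1 ≤ n + k := ⟨(b + 1 - n).toNat, by omega⟩
  induction k generalizing b X with
  | zero => exact hbase X fun i hi => hb i (by omega)
  | succ k ih =>
    by_cases hbn : b < n
    · exact hbase X fun i hi => hb i (by omega)
    have : X.IsLE b := by
      rw [CochainComplex.isLE_iff]
      exact fun i hi => (HomologicalComplex.exactAt_iff_isZero_homology _ _).2 (hb i hi)
    have hq : QuasiIso (X.shortComplexTruncLEX₃ToTruncGE (b - 1) b (by omega)) := inferInstance
    refine hext _ (DerivedCategory.triangleOfSES_distinguished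
      (X.shortComplexTruncLE_shortExact (b - 1))) ?_ ?_
    · refine ih (X.truncLE (b - 1)) (b - 1) (fun i hi => ?_) (fun i hi hi' => ?_) (by omega)
      · exact CochainComplex.isZero_of_isLE _ (b - 1) i (by omega)
      · have := CochainComplex.quasiIsoAt_ιTruncLE X (b - 1) i hi'
        exact R.prop_of_iso ((DerivedCategory.singleFunctor C i).mapIso
          (asIso (HomologicalComplex.homologyMap (X.ιTruncLE (b - 1)) i))).symm
            (hterm i hi (by omega))
    · have : (X.truncGE b).IsLE b := by
        rw [CochainComplex.isLE_iff]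
        intro i hi
        rw [HomologicalComplex.exactAt_iff_isZero_homology]
        have := CochainComplex.quasiIsoAt_πTruncGE X b i hi.le
        exact (hb i hi).of_iso (asIso (HomologicalComplex.homologyMap (X.πTruncGE b) i)).symm
      let T' := (X.truncGE b).truncLE b
      obtain ⟨Y, ⟨e⟩⟩ := CochainComplex.exists_iso_single T' b
      have h1 : IsIso (DerivedCategory.Q.map ((X.truncGE b).ιTruncLE b)) :=
        (DerivedCategory.isIso_Q_map_iff_quasiIso (C := C) _).2 inferInstance
      have h2 : IsIso (DerivedCategory.Q.map
          (X.shortComplexTruncLEX₃ToTruncGE (b - 1) b (by omega))) :=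
        (DerivedCategory.isIso_Q_map_iff_quasiIso (C := C) _).2 hq
      let eT : HomologicalComplex.homology T' b ≅ (X.truncGE b).homology b :=
        have : IsIso (HomologicalComplex.homologyMap ((X.truncGE b).ιTruncLE b) b) := by
          rw [← quasiIsoAt_iff_isIso_homologyMap]
          exact CochainComplex.quasiIsoAt_ιTruncLE (X.truncGE b) b b le_rfl
        asIso (HomologicalComplex.homologyMap ((X.truncGE b).ιTruncLE b) b)
      let eY : Y ≅ X.homology b :=
        (HomologicalComplex.singleObjHomologySelfIso (ComplexShape.up ℤ) b Y).symm ≪≫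
          (HomologicalComplex.homologyFunctor C (ComplexShape.up ℤ) b).mapIso e.symm ≪≫
          eT ≪≫
          (have := CochainComplex.quasiIsoAt_πTruncGE X b b le_rfl
           (asIso (HomologicalComplex.homologyMap (X.πTruncGE b) b)).symm)
      exact R.prop_of_iso ((DerivedCategory.singleFunctor C b).mapIso eY.symm ≪≫
        (DerivedCategory.singleFunctorIsoCompQ C b).app Y ≪≫ DerivedCategory.Q.mapIso e.symm ≪≫
        asIso (DerivedCategory.Q.map ((X.truncGE b).ιTruncLE b)) ≪≫
        (asIso (DerivedCategory.Q.map
          (X.shortComplexTruncLEX₃ToTruncGE (b - 1) b (sub_add_cancel b 1)))).symm) (hterm b (by omega) le_rfl)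

end Groth.Agent.DHA.DInduction
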