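/-
Functorial injective embeddings in Grothendieck abelian categories.
-/
import Mathlib.CategoryTheory.Abelian.GrothendieckCategory.EnoughInjectives

universe w v u

open CategoryTheory CategoryTheory.Limits ZeroObject

namespace Groth.Agent.DHA.InjEmbedding

variable (C : Type u) [Category.{v} C] [Abelian C] [IsGrothendieckAbelian.{w} C]

/-- Functorial injective embeddings in a Grothendieck abelian category. -/
theorem exists_functorial : ∃ (J : C ⥤ C) (j : 𝟭 C ⟶ J),
    ∀ X : C, Injective (J.obj X) ∧ Mono (j.app X) := by
  let data := MorphismProperty.functorialFactorizationData (MorphismProperty.monomorphisms C)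
    (MorphismProperty.monomorphisms C).rlp
  let F : C ⥤ Arrow C :=
    { obj := fun X => Arrow.mk (0 : X ⟶ 0)
      map := fun f => Arrow.homMk f (𝟙 0) (by simp) }
  refine ⟨F ⋙ data.Z, { app := fun X => data.i.app (Arrow.mk (0 : X ⟶ 0))
                        naturality := fun X Y f => data.i.naturality (F.map f) },
    fun X => ⟨?_, data.hi _⟩⟩
  exact (injective_iff_rlp_monomorphisms_of_isZero (data.p.app (Arrow.mk (0 : X ⟶ 0)))
    (isZero_zero C)).2 (data.hp _)

end Groth.Agent.DHA.InjEmbedding
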