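import Mathlib.Algebra.Lie.OfAssociative
import Mathlib.Algebra.Lie.Subalgebra
import Mathlib.Algebra.Lie.Abelian

universe u v w

namespace Groth.Agent.DHA.LieAdPow

variable {R : Type u} [CommRing R] {L : Type v} [LieRing L] [LieAlgebra R L]
  {L' : Type w} [LieRing L'] [LieAlgebra R L']

lemma map_ad_pow (f : L →ₗ⁅R⁆ L') (x : L) (n : ℕ) (y : L) :
    f ((LieAlgebra.ad R L x ^ n) y) = (LieAlgebra.ad R L' (f x) ^ n) (f y) := by
  induction n with
  | zero => simp
  | succ n ih => simp [pow_succ', LieHom.map_lie, ih]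

end Groth.Agent.DHA.LieAdPow
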