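/-
Pseudo-coherence and finite presentation: dévissage by terms, by cohomology, coherent objects,
intermediate subcategories, and images by triangulated functors.
-/
import Groth.Agent.DHA.PCohAPI
import Groth.Agent.DHA.DInduction
import Mathlib.Algebra.Homology.DerivedCategory.SingleTriangle
import Mathlib.Algebra.Homology.DerivedCategory.HomologySequence
import Mathlib.Algebra.Homology.Augment

universe w w' v v' u u'

open CategoryTheory CategoryTheory.Limits CategoryTheory.Pretriangulated

namespace Groth.Agent.DHA.PCohDevissage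

open PCohQis PCohFT PCohCore PCohStability PCohAPI

variable {C : Type u} [Category.{v} C] [Abelian C] [HasDerivedCategory.{w} C]
  {P : ObjectProperty C}

instance (n : ℤ) : ObjectProperty.IsClosedUnderIsomorphisms (C := DerivedCategory C) (PCn P n) :=
  ⟨fun e h => h.of_iso e⟩

/-- the homology of an object placed in degree `0` -/
noncomputable def singleHomologyIso (A : C) :
    (DerivedCategory.homologyFunctor C 0).obj ((DerivedCategory.singleFunctor C 0).obj A) ≅ A :=
  (DerivedCategory.homologyFunctor C 0).mapIso ((DerivedCategory.singleFunctorIsoCompQ C 0).app A) ≪≫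
    homologyIso _ 0 ≪≫ HomologicalComplex.singleObjHomologySelfIso (ComplexShape.up ℤ) 0 A

lemma pcn_single {A : C} {n i : ℤ} (h : PCn P (n - i) ((DerivedCategory.singleFunctor C 0).obj A)) :
    PCn P n ((DerivedCategory.singleFunctor C i).obj A) := by
  have := pcn_shift h (-i)
  rw [show n - i - -i = n by omega] at this
  exact this.of_iso (((DerivedCategory.singleFunctors C).shiftIso (-i) i 0 (by omega)).app A)

variable [P.IsClosedUnderIsomorphisms] [P.ContainsZero]

lemma pcn_single_of_mem {A : C} (hA : P A) (n : ℤ) :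
    PCn P n ((DerivedCategory.singleFunctor C 0).obj A) := by
  refine ⟨(HomologicalComplex.single C (ComplexShape.up ℤ) 0).obj A, ⟨⟨0, fun i hi =>
    HomologicalComplex.isZero_single_obj_X _ _ _ _ (by omega)⟩, fun i _ => ?_⟩,
    ⟨((DerivedCategory.singleFunctorIsoCompQ C 0).app A).symm⟩⟩
  by_cases h : i = 0
  · subst h
    exact P.prop_of_iso (HomologicalComplex.singleObjXSelf _ _ _).symm hA
  · exact P.prop_of_isZero (HomologicalComplex.isZero_single_obj_X _ _ _ _ h)

variable (hsum : ∀ X Y : C, P X → P Y → P (X ⨯ Y)) (hql : PCoh.IsQuasiLiftable P) (hFT : TopFT P)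

include hsum hql hFT

theorem pcn_single_iff_finiteType (A : C) :
    PCn P 0 ((DerivedCategory.singleFunctor C 0).obj A) ↔ PCoh.IsOfFiniteType P A := by
  rw [pcn_iff_finiteType hsum hql hFT _
    (fun i hi => DerivedCategory.isZero_of_isLE _ 0 i hi)]
  exact ⟨fun h => FiniteType.finiteType_of_epi h (singleHomologyIso A).hom,
    fun h => FiniteType.finiteType_of_epi h (singleHomologyIso A).inv⟩

theorem pcn_of_terms {n : ℤ} (X : CochainComplex C ℤ) (b : ℤ)
    (hb : ∀ i, b < i → IsZero (X.X i))
    (h : ∀ i, n ≤ i → PCn P (n - i) ((DerivedCategory.singleFunctor C 0).obj (X.X i))) :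
    PCn P n (DerivedCategory.Q.obj X) :=
  DInduction.mem_of_terms (PCn P n) (fun T hT h₁ h₃ => pcn_obj₂ hsum hql hFT T hT h₁ h₃) n
    (fun Y hY => pcn_of_isZero_homology hsum hql hFT _ fun i hi =>
      (isZero_homology_of_isZero_X Y i (hY i hi)).of_iso (homologyIso Y i))
    X b hb (fun i hi _ => pcn_single (h i hi))

theorem pcn_of_homology {n : ℤ} (F : DerivedCategory C) (b : ℤ)
    (hb : ∀ i, b < i → IsZero ((DerivedCategory.homologyFunctor C i).obj F))
    (h : ∀ i, n ≤ i → PCn P (n - i) ((DerivedCategory.singleFunctor C 0).obj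
      ((DerivedCategory.homologyFunctor C i).obj F))) :
    PCn P n F := by
  obtain ⟨X, ⟨e⟩⟩ := exists_model F
  refine PCn.of_iso ?_ e
  exact DInduction.mem_of_homology (PCn P n)
    (fun T hT h₁ h₃ => pcn_obj₂ hsum hql hFT T hT h₁ h₃) n
    (fun Y hY => pcn_of_isZero_homology hsum hql hFT _ fun i hi => (hY i hi).of_iso (homologyIso Y i))
    X b (fun i hi => isZero_homology_model e (hb i hi))
    (fun i hi _ => pcn_single ((h i hi).of_iso ((DerivedCategory.singleFunctor C 0).mapIso
      ((DerivedCategory.homologyFunctor C i).mapIso e.symm ≪≫ homologyIso X i))))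

theorem pcn_single_X₃ {k : ℤ} {S : ShortComplex C} (hS : S.ShortExact)
    (h₁ : PCn P (k + 1) ((DerivedCategory.singleFunctor C 0).obj S.X₁))
    (h₂ : PCn P k ((DerivedCategory.singleFunctor C 0).obj S.X₂)) :
    PCn P k ((DerivedCategory.singleFunctor C 0).obj S.X₃) :=
  PCn.obj₃ hsum hql hFT _ hS.singleTriangle_distinguished h₁ h₂

theorem pcn_single_X₁ {k : ℤ} {S : ShortComplex C} (hS : S.ShortExact)
    (h₂ : PCn P (k + 1) ((DerivedCategory.singleFunctor C 0).obj S.X₂))
    (h₃ : PCn P k ((DerivedCategory.singleFunctor C 0).obj S.X₃)) :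
    PCn P (k + 1) ((DerivedCategory.singleFunctor C 0).obj S.X₁) :=
  pcn_obj₁ hsum hql hFT _ hS.singleTriangle_distinguished h₂ h₃

omit hFT in
/-- coherent objects are pseudo-coherent -/
theorem pcn_single_of_coherent
    (hcoh : ∀ (X E : C) (u : E ⟶ X), P X → P E → PCoh.IsOfFiniteType P (kernel u)) (k : ℕ) :
    ∀ {A : C}, PCoh.IsOfFiniteType P A →
      (∀ (E : C) (u : E ⟶ A), P E → PCoh.IsOfFiniteType P (kernel u)) →
      PCn P (-(k : ℤ)) ((DerivedCategory.singleFunctor C 0).obj A) := by
  have hFT := topFT_of_quasiStable (quasiStable_of_coherent hcoh)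
  induction k with
  | zero => exact fun hA _ => (pcn_single_iff_finiteType hsum hql hFT _).2 hA
  | succ k ih =>
    intro A hA hAp
    obtain ⟨E, π, hE, hπ⟩ := hA
    have h1 := ih (A := kernel π) (hAp E π hE) (fun E' u hE' =>
      FiniteType.finiteType_of_epi (hcoh E E' (u ≫ kernel.ι π) hE hE')
        (kernelCompMono u (kernel.ι π)).hom)
    refine pcn_single_X₃ hsum hql hFT (k := -((k + 1 : ℕ) : ℤ))
      (S := ShortComplex.mk (kernel.ι π) π (kernel.condition π))
      { exact := ShortComplex.exact_of_f_is_kernel _ (kernelIsKernel π) } ?_ (pcn_single_of_mem hE _)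
    rwa [show -((k + 1 : ℕ) : ℤ) + 1 = -(k : ℤ) by omega]

/-- an object with an exact right resolution by pseudo-coherent objects is pseudo-coherent -/
theorem pcn_single_of_resolution (K : CochainComplex C ℕ) (hK : ∀ i, K.ExactAt i) (N : ℕ)
    (hN : ∀ i, N < i → IsZero (K.X i))
    (h : ∀ i, 1 ≤ i → ∀ n, PCn P n ((DerivedCategory.singleFunctor C 0).obj (K.X i))) (n : ℤ) :
    PCn P n ((DerivedCategory.singleFunctor C 0).obj (K.X 0)) := by
  have key : ∀ k j : ℕ, 1 ≤ j → N + 1 ≤ j + k →
      ∀ n, PCn P n ((DerivedCategory.singleFunctor C 0).obj (kernel (K.d j (j + 1)))) := by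
    intro k
    induction k with
    | zero =>
      intro j hj hk n
      exact pcn_zero n ((DerivedCategory.singleFunctor C 0).map_isZero
        (IsZero.of_mono_eq_zero (kernel.ι (K.d j (j + 1))) ((hN j (by omega)).eq_of_tgt _ _)))
    | succ k ih =>
      intro j hj hk n
      let g : K.X j ⟶ kernel (K.d (j + 1) (j + 1 + 1)) :=
        kernel.lift _ (K.d j (j + 1)) (K.d_comp_d _ _ _)
      let S : ShortComplex C := ShortComplex.mk (kernel.ι (K.d j (j + 1))) g (by
        rw [← cancel_mono (kernel.ι _)]; simp [g])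
      have hS : S.ShortExact :=
        { exact := by
            rw [ShortComplex.exact_iff_exact_up_to_refinements]
            intro A x hx
            refine ⟨A, 𝟙 A, inferInstance, kernel.lift _ x ?_, ?_⟩
            · have := congrArg (fun m => m ≫ kernel.ι _) hx
              simpa [S, g] using this
            · simp [S]
          epi_g := by
            have hex := hK (j + 1)
            rw [HomologicalComplex.exactAt_iff_exact_up_to_refinements K j (j + 1) (j + 1 + 1)
              (by simp) (by simp)] at hex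
            change Epi g
            rw [epi_iff_surjective_up_to_refinements]
            intro A y
            obtain ⟨A', π, hπ, x, hx⟩ := hex (y ≫ kernel.ι _) (by simp)
            exact ⟨A', π, hπ, x, by rw [← cancel_mono (kernel.ι _)]; simp [g, hx]⟩ }
      have := pcn_single_X₁ hsum hql hFT hS (h j hj (n - 1 + 1))
        (ih (j + 1) (by omega) (by omega) (n - 1))
      rwa [sub_add_cancel] at this
  let S : ShortComplex C := ShortComplex.mk (K.d 0 1) (K.d 1 2) (K.d_comp_d _ _ _)
  have hex : S.Exact := (K.exactAt_iff' 0 1 2 (by simp) (by simp)).1 (hK 1)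
  have : Mono S.f :=
    ((K.exactAt_iff' 0 0 1 (by simp) (by simp)).1 (hK 0)).mono_g (K.shape _ _ (by simp))
  exact (key N 1 le_rfl (by omega) n).of_iso ((DerivedCategory.singleFunctor C 0).mapIso
    (hex.fIsKernel.conePointUniqueUpToIso (kernelIsKernel S.g)).symm)

omit hql hFT in
/-- finite presentation of order `n` -/
noncomputable def FP (P : ObjectProperty C) : ℕ → C → Prop
  | 0, F => PCoh.IsOfFiniteType P F
  | n + 1, F => ∃ (E : C) (π : E ⟶ F), P E ∧ Epi π ∧ FP P n (kernel π)

theorem fp_iff_pcn : ∀ (n : ℕ) (F : C),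
    FP P n F ↔ PCn P (-(n : ℤ)) ((DerivedCategory.singleFunctor C 0).obj F)
  | 0, F => (pcn_single_iff_finiteType hsum hql hFT F).symm
  | n + 1, F => by
    have he : -((n + 1 : ℕ) : ℤ) + 1 = -(n : ℤ) := by omega
    constructor
    · rintro ⟨E, π, hE, hπ, h⟩
      refine pcn_single_X₃ hsum hql hFT (S := ShortComplex.mk (kernel.ι π) π (kernel.condition π))
        { exact := ShortComplex.exact_of_f_is_kernel _ (kernelIsKernel π) } ?_ (pcn_single_of_mem hE _)
      rw [he]
      exact (fp_iff_pcn n _).1 h
    · intro h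
      obtain ⟨E, π, hE, hπ⟩ := (pcn_single_iff_finiteType hsum hql hFT F).1 (h.mono (by omega))
      refine ⟨E, π, hE, hπ, (fp_iff_pcn n _).2 ?_⟩
      rw [← he]
      exact pcn_single_X₁ hsum hql hFT (S := ShortComplex.mk (kernel.ι π) π (kernel.condition π))
        { exact := ShortComplex.exact_of_f_is_kernel _ (kernelIsKernel π) } (pcn_single_of_mem hE _) h

end Groth.Agent.DHA.PCohDevissage
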