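/-
Perfect complexes over a liftable subcategory stable under kernels of epimorphisms.
-/
import Groth.Agent.DHA.PCohAPI

universe w v u

open CategoryTheory CategoryTheory.Limits CategoryTheory.Pretriangulated

namespace Groth.Agent.DHA.PCohPerfect

open PCohQis PCohFT PCohCore PCohStability PCohAPI

variable {C : Type u} [Category.{v} C] [Abelian C] {P : ObjectProperty C}
  [P.IsClosedUnderIsomorphisms] [P.ContainsZero]
  (hsum : ∀ X Y : C, P X → P Y → P (X ⨯ Y))
  (hlift : ∀ (E F : C) (u : E ⟶ F), Epi u → P F → IsSplitEpi u)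
  (hst : ∀ (E F : C) (u : E ⟶ F), Epi u → P E → P F → P (kernel u))

omit [P.ContainsZero] [P.IsClosedUnderIsomorphisms] in
include hlift in
lemma quasiLiftable : PCoh.IsQuasiLiftable P := fun E F u hu hF =>
  have := hlift E F u hu hF
  ⟨F, section_ u, hF, by rw [IsSplitEpi.id]; infer_instance⟩

include hst in
lemma kernel_d_mem (X : CochainComplex C ℤ) (b : ℤ) (hb : ∀ i, b < i → IsZero (X.X i)) (m : ℤ)
    (hP : ∀ i, m ≤ i → P (X.X i)) (hex : ∀ i, m < i → X.ExactAt i) :
    P (kernel (X.d m (m + 1))) := by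
  obtain ⟨k, hk⟩ : ∃ k : ℕ, b + 1 ≤ m + k := ⟨(b + 1 - m).toNat, by omega⟩
  induction k generalizing m with
  | zero =>
    exact P.prop_of_isZero (IsZero.of_mono_eq_zero (kernel.ι _)
      ((hb m (by omega)).eq_of_tgt _ _))
  | succ k ih =>
    have hZ := ih (m + 1) (fun i hi => hP i (by omega)) (fun i hi => hex i (by omega)) (by omega)
    let g : X.X m ⟶ kernel (X.d (m + 1) (m + 1 + 1)) :=
      kernel.lift _ (X.d m (m + 1)) (X.d_comp_d _ _ _)
    have : Epi g := by
      have h := hex (m + 1) (by omega)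
      rw [HomologicalComplex.exactAt_iff_exact_up_to_refinements X m (m + 1) (m + 1 + 1)
        (by simp) (by simp)] at h
      rw [epi_iff_surjective_up_to_refinements]
      intro A y
      obtain ⟨A', π, hπ, x, hx⟩ := h (y ≫ kernel.ι _) (by simp)
      exact ⟨A', π, hπ, x, by rw [← cancel_mono (kernel.ι _)]; simp [g, hx]⟩
    exact P.prop_of_iso ((kernelCompMono g (kernel.ι _)).symm ≪≫
      kernelIsoOfEq (kernel.lift_ι _ _ _)) (hst _ _ g inferInstance (hP m le_rfl) hZ)

include hst in
lemma topFT : TopFT P := by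
  intro n E hE hac
  obtain ⟨⟨b, hb⟩, hP⟩ := hE
  have h := kernel_d_mem hst E b hb n hP
    (fun i hi => (HomologicalComplex.exactAt_iff_isZero_homology _ _).2 (hac i hi))
  exact FiniteType.finiteType_of_epi ⟨_, 𝟙 _, h, inferInstance⟩
    (((kernelIsKernel (E.d n (n + 1))).conePointUniqueUpToIso
      (E.cyclesIsKernel n (n + 1) (by simp))).hom ≫ E.homologyπ n)

include hsum hlift hst in
/-- the first term of a complex quasi-isomorphic to a perfect one -/
theorem first_term (G F : CochainComplex C ℤ) (s : G ⟶ F) [QuasiIso s] (a b : ℤ)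
    [G.IsStrictlyGE a] [F.IsStrictlyGE a]
    (hb : ∀ i, b < i → IsZero (G.X i) ∧ IsZero (F.X i))
    (hG : ∀ i, a ≤ i → P (G.X i)) (hF : ∀ i, a < i → P (F.X i)) : P (F.X a) := by
  let W := CochainComplex.mappingCone s
  have hW : ∀ i, W.ExactAt i := fun i => exactAt_cone (IsQisN.of_quasiIso s i) i le_rfl
  have hWX : ∀ i, a + 1 ≤ i → P (W.X i) := fun i hi =>
    P.prop_of_iso (HomologicalComplex.homotopyCofiber.XIsoBiprod s i (i + 1) rfl).symm
      (FiniteType.biprod_mem hsum (hG _ (by omega)) (hF _ (by omega)))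
  have hWb : ∀ i, b < i → IsZero (W.X i) := fun i hi => IsZero.of_iso (by
      rw [IsZero.iff_id_eq_zero]
      exact biprod.hom_ext' _ _ ((hb (i + 1) (by omega)).1.eq_of_src _ _)
        ((hb i hi).2.eq_of_src _ _))
      (HomologicalComplex.homotopyCofiber.XIsoBiprod s i (i + 1) rfl)
  have hZ := kernel_d_mem hst W b hWb (a + 1) hWX (fun i _ => hW i)
  have hW1 : P (W.X (a - 1)) := by
    refine P.prop_of_iso (HomologicalComplex.homotopyCofiber.XIsoBiprod s (a - 1) a (by simp)).symm
      (FiniteType.biprod_mem hsum (hG a le_rfl) (P.prop_of_isZero ?_))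
    exact F.isZero_of_isStrictlyGE a (a - 1)
  let g : W.X a ⟶ kernel (W.d (a + 1) (a + 1 + 1)) :=
    kernel.lift _ (W.d a (a + 1)) (W.d_comp_d _ _ _)
  let S : ShortComplex C := ShortComplex.mk (W.d (a - 1) a) g (by
    rw [← cancel_mono (kernel.ι _)]; simp [g])
  have hmono : Mono S.f := by
    have h := (W.exactAt_iff' (a - 2) (a - 1) a (by simp; omega) (by simp)).1 (hW (a - 1))
    refine h.mono_g (IsZero.eq_of_src ?_ _ _)
    change IsZero (W.X (a - 2))
    exact IsZero.of_iso (by
      rw [IsZero.iff_id_eq_zero]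
      exact biprod.hom_ext' _ _ ((G.isZero_of_isStrictlyGE a (a - 1)).eq_of_src _ _)
        ((F.isZero_of_isStrictlyGE a (a - 2)).eq_of_src _ _))
      (HomologicalComplex.homotopyCofiber.XIsoBiprod s (a - 2) (a - 1) (by simp; omega))
  have hepi : Epi g := by
    have h := hW (a + 1)
    rw [HomologicalComplex.exactAt_iff_exact_up_to_refinements W a (a + 1) (a + 1 + 1)
      (by simp) (by simp)] at h
    rw [epi_iff_surjective_up_to_refinements]
    intro A y
    obtain ⟨A', π, hπ, x, hx⟩ := h (y ≫ kernel.ι _) (by simp)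
    exact ⟨A', π, hπ, x, by rw [← cancel_mono (kernel.ι _)]; simp [g, hx]⟩
  have hex : S.Exact := by
    rw [ShortComplex.exact_iff_exact_up_to_refinements]
    have h := hW a
    rw [HomologicalComplex.exactAt_iff_exact_up_to_refinements W (a - 1) a (a + 1)
      (by simp) (by simp)] at h
    intro A x hx
    exact h x (by simpa [S, g] using congrArg (fun m => m ≫ kernel.ι _) hx)
  have := hlift _ _ g hepi hZ
  have hWa : P (W.X a) :=
    P.prop_of_iso (ShortComplex.Splitting.isoBinaryBiproduct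
      (ShortComplex.Splitting.ofExactOfSection S hex (section_ g) (IsSplitEpi.id g) hmono)).symm
      (FiniteType.biprod_mem hsum hW1 hZ)
  exact P.prop_of_iso (kernelBiprodFstIso (X := G.X (a + 1)) (Y := F.X a))
    (hst _ _ _ inferInstance
      (P.prop_of_iso (HomologicalComplex.homotopyCofiber.XIsoBiprod s a (a + 1) rfl) hWa)
      (hG (a + 1) (by omega)))

include hsum hst in
/-- opcycles of a resolution of a perfect complex -/
theorem opcycles_mem (G E : CochainComplex C ℤ) (s : G ⟶ E) [QuasiIso s] (a : ℤ)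
    [E.IsStrictlyGE a] (hG : PCoh.IsStrictPCAll P G) (hE : PCoh.IsStrictPCAll P E) :
    P (G.opcycles a) := by
  let W := CochainComplex.mappingCone s
  have hW : ∀ i, W.ExactAt i := fun i => exactAt_cone (IsQisN.of_quasiIso s i) i le_rfl
  obtain ⟨⟨b, hb⟩, hWX⟩ := isStrictPC_cone hsum s (n := a)
    (isStrictPC_of_all hG _) (isStrictPC_of_all hE _)
  have hZ := kernel_d_mem hst W b hb a hWX (fun i _ => hW i)
  let k : G.X a ⟶ W.X (a - 1) := (CochainComplex.mappingCone.inl s).v a (a - 1) (by omega)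
  have hk : ∀ {A : C} (x : A ⟶ W.X (a - 1)),
      x = (x ≫ (CochainComplex.mappingCone.fst s).1.v (a - 1) a (by omega)) ≫ k := fun x => by
    apply CochainComplex.mappingCone.ext_to s (a - 1) a (by omega)
    · simp [k]
    · exact (E.isZero_of_isStrictlyGE a (a - 1)).eq_of_tgt _ _
  let g : G.X a ⟶ kernel (W.d a (a + 1)) := kernel.lift _ (k ≫ W.d (a - 1) a) (by simp)
  let S : ShortComplex C := ShortComplex.mk (G.d (a - 1) a) g (by
    rw [← cancel_mono (kernel.ι _)]
    simp only [g, Category.assoc, kernel.lift_ι, zero_comp]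
    have := CochainComplex.mappingCone.inl_v_d s (a - 1) (a - 2) a (by omega) (by omega)
    have hz : s.f (a - 1) = 0 := (E.isZero_of_isStrictlyGE a (a - 1)).eq_of_tgt _ _
    rw [hz, zero_comp, zero_sub] at this
    have h2 := congrArg (fun m => m ≫ W.d (a - 1) a) this
    simp only [W, Category.assoc, HomologicalComplex.d_comp_d, comp_zero, Preadditive.neg_comp] at h2
    exact neg_eq_zero.1 h2.symm)
  have : Epi g := by
    have h := hW a
    rw [HomologicalComplex.exactAt_iff_exact_up_to_refinements W (a - 1) a (a + 1)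
      (by simp) (by simp)] at h
    rw [epi_iff_surjective_up_to_refinements]
    intro A y
    obtain ⟨A', π, hπ, x, hx⟩ := h (y ≫ kernel.ι _) (by simp)
    refine ⟨A', π, hπ, x ≫ (CochainComplex.mappingCone.fst s).1.v (a - 1) a (by omega), ?_⟩
    rw [← cancel_mono (kernel.ι _)]
    simp only [g, Category.assoc, kernel.lift_ι, hx]
    rw [← Category.assoc, ← Category.assoc, ← hk x]
  have hex : S.Exact := by
    rw [ShortComplex.exact_iff_exact_up_to_refinements]
    intro A e he
    have h := hW (a - 1)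
    rw [HomologicalComplex.exactAt_iff_exact_up_to_refinements W (a - 2) (a - 1) a
      (by simp; omega) (by simp)] at h
    have he' : (e ≫ k) ≫ W.d (a - 1) a = 0 := by
      simpa [S, g] using congrArg (fun m => m ≫ kernel.ι _) he
    obtain ⟨A', π, hπ, x, hx⟩ := h (e ≫ k) he'
    refine ⟨A', π, hπ,
      -(x ≫ (CochainComplex.mappingCone.fst s).1.v (a - 2) (a - 1) (by omega)), ?_⟩
    have h2 := congrArg
      (fun m => m ≫ (CochainComplex.mappingCone.fst s).1.v (a - 1) a (by omega)) hx
    simp only [k, Category.assoc] at h2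
    rw [CochainComplex.mappingCone.inl_v_fst_v s a (a - 1) (by omega), Category.comp_id,
      CochainComplex.mappingCone.d_fst_v s (a - 2) (a - 1) a (by omega) (by omega)] at h2
    change π ≫ e = (-(x ≫ _)) ≫ G.d (a - 1) a
    rw [h2]
    simp
  exact P.prop_of_iso (hex.gIsCokernel.coconePointUniqueUpToIso
    (G.opcyclesIsCokernel (a - 1) a (by simp))) hZ

omit [P.ContainsZero] in
lemma truncGE_mem (G : CochainComplex C ℤ) (a : ℤ) (hG : ∀ i, a < i → P (G.X i))
    (ha : P (G.opcycles a)) : ∀ i, a ≤ i → P ((G.truncGE a).X i) := fun i hi => by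
  rcases hi.lt_or_eq with h | rfl
  · exact P.prop_of_iso (G.truncGEXIso a i h).symm (hG i h)
  · exact P.prop_of_iso (G.truncGEXIsoOpcycles a).symm ha

omit [P.IsClosedUnderIsomorphisms] [P.ContainsZero] in
lemma truncGE_isZero (G : CochainComplex C ℤ) (a b : ℤ) (hab : a ≤ b)
    (hb : ∀ i, b < i → IsZero (G.X i)) : ∀ i, i < a ∨ b < i → IsZero ((G.truncGE a).X i) := by
  rintro i (h | h)
  · exact (G.truncGE a).isZero_of_isStrictlyGE a i h
  · exact (hb i h).of_iso (G.truncGEXIso a i (by omega))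

include hsum hlift hst in
/-- transport of the condition on opcycles along a quasi-isomorphism -/
theorem opcycles_mem_of_qis (G H : CochainComplex C ℤ) (g : G ⟶ H) [QuasiIso g] (a : ℤ)
    (hG : PCoh.IsStrictPCAll P G) (hH : PCoh.IsStrictPCAll P H) (ha : P (G.opcycles a)) :
    P (H.opcycles a) := by
  obtain ⟨⟨b, hb⟩, hGX⟩ := hG
  obtain ⟨⟨c, hc⟩, hHX⟩ := hH
  have : QuasiIso (CochainComplex.truncGEMap g a) := by
    rw [CochainComplex.quasiIso_truncGEMap_iff]
    exact fun i _ => inferInstance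
  refine P.prop_of_iso (H.truncGEXIsoOpcycles a) (first_term hsum hlift hst _ _
    (CochainComplex.truncGEMap g a) a (max (max b c) a) (fun i hi => ?_)
    (truncGE_mem G a (fun i _ => hGX i) ha) (fun i hi => ?_))
  · exact ⟨(hb i (by omega)).of_iso (G.truncGEXIso a i (by omega)),
      (hc i (by omega)).of_iso (H.truncGEXIso a i (by omega))⟩
  · exact P.prop_of_iso (H.truncGEXIso a i hi).symm (hHX i)

variable [HasDerivedCategory.{w} C]

variable (P) in
/-- perfect amplitude in `[a, b]` -/
def Amp (a b : ℤ) (F : DerivedCategory C) : Prop :=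
  ∃ E : CochainComplex C ℤ, (∀ i : ℤ, P (E.X i)) ∧ (∀ i : ℤ, i < a ∨ b < i → IsZero (E.X i)) ∧
    Nonempty (DerivedCategory.Q.obj E ≅ F)

omit [P.IsClosedUnderIsomorphisms] [P.ContainsZero] in
lemma isStrictlyGE_of_zero {E : CochainComplex C ℤ} {a : ℤ} (h : ∀ i, i < a → IsZero (E.X i)) :
    E.IsStrictlyGE a := by
  rw [CochainComplex.isStrictlyGE_iff]
  exact h

include hlift hst hsum in
/-- every strict model of an object of amplitude in `[a, b]` can be truncated at `a` -/
theorem model {a b : ℤ} {G : CochainComplex C ℤ} (hG : PCoh.IsStrictPCAll P G)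
    (h : Amp P a b (DerivedCategory.Q.obj G)) : P (G.opcycles a) ∧ G.IsGE a := by
  obtain ⟨E, hEP, hEz, ⟨e⟩⟩ := h
  obtain ⟨Z, s, hs, f, hf⟩ := DerivedCategory.right_fac e.inv
  have hf' : IsIso (DerivedCategory.Q.map f) := by
    have : DerivedCategory.Q.map f = DerivedCategory.Q.map s ≫ e.inv := by simp [hf]
    rw [this]; infer_instance
  have : QuasiIso s := (DerivedCategory.isIso_Q_map_iff_quasiIso (C := C) s).1 hs
  have : QuasiIso f := (DerivedCategory.isIso_Q_map_iff_quasiIso (C := C) f).1 hf'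
  have := isStrictlyGE_of_zero (fun i hi => hEz i (Or.inl hi))
  obtain ⟨c, hc⟩ := hG.1
  obtain ⟨G₁, g, hG₁, -, hg⟩ := exists_all_resolution hsum (quasiLiftable hlift) (topFT hst) (X := Z)
    (fun m => ⟨G, isStrictPC_of_all hG m, ⟨(asIso (DerivedCategory.Q.map s)).symm⟩⟩) (c + 1)
    (fun i hi => (isZero_homology_of_isZero_X G i (hc i (by omega))).of_iso
      (asIso (HomologicalComplex.homologyMap s i)))
  refine ⟨opcycles_mem_of_qis hsum hlift hst G₁ G (g ≫ s) a hG₁ hG
    (opcycles_mem hsum hst G₁ E (g ≫ f) a hG₁ ⟨⟨b, fun i hi => hEz i (Or.inr hi)⟩, hEP⟩), ?_⟩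
  rw [CochainComplex.isGE_iff]
  intro i hi
  rw [HomologicalComplex.exactAt_iff_isZero_homology]
  exact isZero_homology_model e.symm ((isZero_homology_of_isZero_X E i (hEz i (Or.inl hi))).of_iso
    (homologyIso E i))

lemma amp_of_opcycles {a b : ℤ} (hab : a ≤ b) {G : CochainComplex C ℤ} (hG : PCoh.IsStrictPCAll P G)
    (hb : ∀ i, b < i → IsZero (G.X i)) (ha : P (G.opcycles a)) [G.IsGE a] :
    Amp P a b (DerivedCategory.Q.obj G) := by
  have : IsIso (DerivedCategory.Q.map (G.πTruncGE a)) :=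
    (DerivedCategory.isIso_Q_map_iff_quasiIso (C := C) _).2 inferInstance
  refine ⟨G.truncGE a, fun i => ?_, truncGE_isZero G a b hab hb,
    ⟨(asIso (DerivedCategory.Q.map (G.πTruncGE a))).symm⟩⟩
  by_cases h : a ≤ i
  · exact truncGE_mem G a (fun i _ => hG.2 i) ha i h
  · exact P.prop_of_isZero ((G.truncGE a).isZero_of_isStrictlyGE a i (by omega))

end Groth.Agent.DHA.PCohPerfect
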